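import Cfsg.Agent.Lib.Symp.MaxField

/-!
# The normaliser of a unitary overfield is maximal in the symplectic group (odd characteristic)
-/

namespace Cfsg.Lib.Symp

open Matrix Module Cfsg.Geo Cfsg.Lib.Asch Cfsg.Lib.Linear
open scoped MatrixGroups

set_option linter.unusedSectionVars false

variable {ι : Type} [Fintype ι] [DecidableEq ι] {F : Type*} [Field F]
  {f : (ι → F) → (ι → F) → F} {M : Subgroup (GL ι F)}

/-- An isometry centralising `v` and `v^⊥ / v` is an Eichler element. -/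
theorem Ei.of_trivial (h : Alt f) {e : GL ι F} (he : e ∈ M) (hi : e ∈ Asch.iso f) {v x₀ : ι → F}
    (hx₀ : f x₀ v = 1) (h1 : e.1 *ᵥ v = v)
    (h2 : ∀ x, f x v = 0 → ∃ a : F, e.1 *ᵥ x = x + a • v) :
    Ei M f v (e.1 *ᵥ x₀ - x₀) (-f x₀ (e.1 *ᵥ x₀ - x₀)) := by
  have h3 : f (e.1 *ᵥ x₀ - x₀) v = 0 := by
    rw [h.sub_left, hx₀, ← h1, hi, hx₀, sub_self]
  refine ⟨h3, e, he, fun x => ?_⟩
  obtain ⟨a, ha⟩ := h2 (x - f x v • x₀) (by rw [h.sub_left, h.smul_left, hx₀, mul_one, sub_self])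
  have h4 := hi (x - f x v • x₀) x₀
  have h5 : f v (e.1 *ᵥ x₀) = -1 := by rw [← h1, hi, h.skew, hx₀]
  rw [ha, h.add_left, h.smul_left, h5, h.sub_left, h.sub_left, h.smul_left, h.smul_left,
    h.alt] at h4
  rw [mulVec_sub, mulVec_smul, sub_eq_iff_eq_add] at ha
  rw [ha, h.sub_right, h.sub_right, h.alt,
    show a = f x (e.1 *ᵥ x₀) - f x x₀ - f x₀ (e.1 *ᵥ x₀) * f x v by linear_combination -h4]
  module

variable {K : Type*} [Field K] [Algebra F K] [Module K (ι → F)] [IsScalarTower F K (ι → F)]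

/-- A quadratic overfield `K = F(j)` acting on a symplectic space with `j` skew-adjoint. -/
structure UAlt (f : (ι → F) → (ι → F) → F) (j : K) (d : F) : Prop where
  alt : Alt f
  skew : ∀ x y, f (j • x) y = -f x (j • y)
  rank : finrank F K = 2
  sq : j * j = algebraMap F K d
  notMem : ∀ c : F, algebraMap F K c ≠ j
  two : (2 : F) ≠ 0

/-- The hermitian form attached to `f` and `j`. -/
def hm (f : (ι → F) → (ι → F) → F) (j : K) (x y : ι → F) : K :=
  algebraMap F K (f x (j • y)) - algebraMap F K (f x y) * j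

namespace UAlt

variable {j : K} {d : F}

theorem span (h : UAlt f j d) (κ : K) : ∃ a b : F, ∀ x : ι → F, κ • x = a • x + b • j • x := by
  obtain ⟨a, b, rfl⟩ := exists_add_smul_of_finrank_two h.rank h.notMem κ
  exact ⟨a, b, fun x => by rw [add_smul, algebraMap_smul, smul_assoc]⟩

theorem jj (h : UAlt f j d) (x : ι → F) : j • j • x = d • x := by
  rw [smul_smul, h.sq, algebraMap_smul]

theorem jj' (h : UAlt f j d) (x y : ι → F) : f (j • x) (j • y) = -(d * f x y) := by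
  rw [h.skew, h.jj, h.alt.smul_right']

theorem symm (h : UAlt f j d) (x y : ι → F) : f x (j • y) = f y (j • x) := by
  rw [h.alt.skew, h.skew, neg_neg]

theorem hm_add (h : UAlt f j d) (x y z : ι → F) : hm f j (x + y) z = hm f j x z + hm f j y z := by
  simp only [hm, h.alt.add_left, map_add]
  ring

theorem hm_smul (h : UAlt f j d) (κ : K) (x y : ι → F) : hm f j (κ • x) y = κ * hm f j x y := by
  obtain ⟨a, b, rfl⟩ := exists_add_smul_of_finrank_two h.rank h.notMem κ
  rw [add_smul, algebraMap_smul, smul_assoc, Algebra.smul_def b j]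
  simp only [hm, h.alt.add_left, h.alt.smul_left, h.jj', h.skew x y, map_add, map_mul, map_neg,
    ← h.sq]
  ring

theorem hm_sub (h : UAlt f j d) (x y z : ι → F) : hm f j (x - y) z = hm f j x z - hm f j y z := by
  simp only [hm, h.alt.sub_left, map_sub]
  ring

theorem hm_self (h : UAlt f j d) (x : ι → F) : hm f j x x = algebraMap F K (f x (j • x)) := by
  simp [hm, h.alt.alt]

theorem hm_eq_zero (h : UAlt f j d) {x y : ι → F} :
    hm f j x y = 0 ↔ f x y = 0 ∧ f x (j • y) = 0 := by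
  refine ⟨fun h0 => ?_, fun h0 => by simp [hm, h0.1, h0.2]⟩
  have h1 : f x y = 0 := by
    by_contra h1
    refine h.notMem (f x (j • y) / f x y) ?_
    rw [map_div₀, div_eq_iff ((map_ne_zero _).2 h1), mul_comm]
    exact sub_eq_zero.1 h0
  refine ⟨h1, ?_⟩
  simpa [hm, h1] using h0

theorem hm_comm (h : UAlt f j d) {x y : ι → F} (h0 : hm f j x y = 0) : hm f j y x = 0 := by
  rw [h.hm_eq_zero] at h0 ⊢
  exact ⟨by rw [h.alt.skew, h0.1, neg_zero], by rw [h.symm, h0.2]⟩

theorem f_smul_left (h : UAlt f j d) {x y : ι → F} (h0 : hm f j x y = 0) (κ : K) :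
    f (κ • x) y = 0 :=
  (h.hm_eq_zero.1 (by rw [h.hm_smul, h0, mul_zero])).1

theorem f_smul_right (h : UAlt f j d) {x y : ι → F} (h0 : hm f j x y = 0) (κ : K) :
    f x (κ • y) = 0 := by
  rw [h.alt.skew, h.f_smul_left (h.hm_comm h0), neg_zero]

theorem hm_ne (h : UAlt f j d) {s : ι → F} (hs : f s (j • s) ≠ 0) : hm f j s s ≠ 0 := by
  rwa [h.hm_self, map_ne_zero]

theorem hm_proj (h : UAlt f j d) {s : ι → F} (hs : f s (j • s) ≠ 0) (x : ι → F) :
    hm f j (x - (hm f j x s / hm f j s s) • s) s = 0 := by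
  rw [h.hm_sub, h.hm_smul, div_mul_cancel₀ _ (h.hm_ne hs), sub_self]

theorem smul_ne (h : UAlt f j d) {s : ι → F} (hs : f s (j • s) ≠ 0) {κ : K} (hκ : κ ≠ 0) :
    f (κ • s) (j • κ • s) ≠ 0 := fun h0 => by
  have h1 := h.f_smul_left (h.hm_eq_zero.2 ⟨h.alt.alt _, h0⟩) κ⁻¹
  have h2 := h.f_smul_left (h.hm_eq_zero.2 ⟨h.alt.alt _, h0⟩) (j * κ⁻¹)
  rw [inv_smul_smul₀ hκ] at h1
  rw [mul_smul, inv_smul_smul₀ hκ, h.skew, neg_eq_zero] at h2
  have h3 := h.f_smul_right (h.hm_eq_zero.2 ⟨h1, h2⟩) (j * κ⁻¹)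
  rw [mul_smul, inv_smul_smul₀ hκ] at h3
  exact hs h3

/-- Quasi-reflections. -/
theorem exists_qr (h : UAlt f j d) {s : ι → F} (hs : f s (j • s) ≠ 0) {l : K}
    (hl : ∀ x y, f (l • x) (l • y) = f x y) : ∃ g ∈ semiGL K ⊓ iso f, ∀ x : ι → F,
      g.1 *ᵥ x = x + ((l - 1) * (hm f j x s / hm f j s s)) • s := by
  let A : (ι → F) →ₗ[K] (ι → F) :=
    { toFun := fun x => x + ((l - 1) * (hm f j x s / hm f j s s)) • s
      map_add' := fun x y => by rw [h.hm_add, add_div, mul_add, add_smul]; abel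
      map_smul' := fun κ x => by
        rw [h.hm_smul, RingHom.id_apply, smul_add, smul_smul]
        congr 2
        ring }
  obtain ⟨g, hg, hgA⟩ := h.alt.exists_iso_of_linear (A.restrictScalars F) fun x y => by
    have h1 : ∀ x, A x = l • (hm f j x s / hm f j s s) • s +
        (x - (hm f j x s / hm f j s s) • s) := fun x => by
      change x + _ = _
      module
    have h2 : ∀ (a b : K) x y, f (a • s + (x - (hm f j x s / hm f j s s) • s))
        (b • s + (y - (hm f j y s / hm f j s s) • s)) = f (a • s) (b • s) +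
        f (x - (hm f j x s / hm f j s s) • s) (y - (hm f j y s / hm f j s s) • s) :=
      fun a b x y => by
        rw [h.alt.add_left, h.alt.add_right, h.alt.add_right,
          h.f_smul_right (h.hm_proj hs x), h.f_smul_left (h.hm_comm (h.hm_proj hs y))]
        ring
    rw [LinearMap.restrictScalars_apply, LinearMap.restrictScalars_apply, h1, h1, smul_smul,
      smul_smul, h2, mul_smul, mul_smul, hl, ← h2, add_sub_cancel, add_sub_cancel]
  exact ⟨g, ⟨mem_semiGL_of_linear fun κ x => by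
    rw [hgA, hgA, LinearMap.restrictScalars_apply, map_smul]; rfl, hg⟩, hgA⟩

theorem one_sub_ne (h : UAlt f j d) (c : F) : 1 - c • j ≠ 0 := fun h0 => by
  have hc : c ≠ 0 := by
    rintro rfl
    simp at h0
  refine h.notMem c⁻¹ ?_
  rw [map_inv₀, inv_eq_iff_eq_inv, eq_comm, inv_eq_iff_eq_inv, ← map_inv₀, eq_comm, map_inv₀]
  refine inv_eq_of_mul_eq_one_right ?_
  rw [← Algebra.smul_def, eq_comm, ← sub_eq_zero, h0]

theorem cayley (h : UAlt f j d) (c : F) (x y : ι → F) :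
    f (((1 + c • j) / (1 - c • j)) • x) (((1 + c • j) / (1 - c • j)) • y) = f x y := by
  have h1 : ∀ x : ι → F, x = (1 - c • j) • (1 - c • j)⁻¹ • x := fun x =>
    (smul_inv_smul₀ (h.one_sub_ne c) x).symm
  rw [div_eq_mul_inv, mul_smul, mul_smul]
  conv_rhs => rw [h1 x, h1 y]
  simp only [add_smul, sub_smul, one_smul, smul_assoc, h.alt.add_left, h.alt.add_right,
    h.alt.sub_left, h.alt.sub_right, h.alt.smul_left, h.alt.smul_right', h.skew]
  ring

theorem neg_one (h : UAlt f j d) (x y : ι → F) : f ((-1 : K) • x) ((-1 : K) • y) = f x y := by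
  simp only [neg_smul, one_smul, h.alt.neg_left, h.alt.neg_right, neg_neg]

/-- A subring containing all the norm-one elements is everything. -/
theorem subring_eq_top [Finite K] (h : UAlt f j d) {R : Subring K}
    (hR : ∀ l : K, (∀ x y, f (l • x) (l • y) = f x y) → l ∈ R) (κ : K) : κ ∈ R := by
  have hinv : ∀ x ∈ R, x⁻¹ ∈ R := fun x hx => by
    rcases eq_or_ne x 0 with rfl | h0
    · simp
    have := Fintype.ofFinite K
    have h1 := FiniteField.pow_card_sub_one_eq_one x h0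
    have h2 : Fintype.card K - 1 = (Fintype.card K - 2) + 1 := by
      have := Fintype.one_lt_card (α := K)
      omega
    rw [h2, pow_succ] at h1
    rw [← eq_inv_of_mul_eq_one_left h1]
    exact pow_mem hx _
  have h2 : (2 : K) ≠ 0 := by
    rw [← map_ofNat (algebraMap F K) 2, map_ne_zero]
    exact h.two
  have h1 : ∀ c : F, c • j ∈ R := fun c => by
    have h3 := hR _ (h.cayley c)
    have h4 := h.one_sub_ne c
    convert mul_mem (sub_mem h3 R.one_mem) (hinv _ (add_mem h3 R.one_mem)) using 1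
    rw [div_sub_one h4, div_add_one h4]
    rw [show 1 + c • j - (1 - c • j) = 2 * c • j by ring,
      show 1 + c • j + (1 - c • j) = 2 by ring]
    field_simp
  have hj : j ≠ 0 := fun h0 => h.notMem 0 (by rw [h0, map_zero])
  obtain ⟨a, b, rfl⟩ := exists_add_smul_of_finrank_two h.rank h.notMem κ
  refine add_mem ?_ (h1 b)
  convert mul_mem (h1 a) (hinv _ (h1 1)) using 1
  rw [one_smul, Algebra.smul_def, mul_inv_cancel_right₀ hj]

variable [Finite K]

/-- The translation parts of the Eichler elements with centre `v`. -/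
def eiSub (h : Alt f) (M : Subgroup (GL ι F)) (v : ι → F) : AddSubgroup (ι → F) where
  carrier := {w | ∃ c, Ei M f v w c}
  zero_mem' := ⟨0, Ei.zero h M v⟩
  add_mem' := fun ⟨_, h1⟩ ⟨_, h2⟩ => ⟨_, h1.mul h h2⟩
  neg_mem' := fun ⟨_, h1⟩ => ⟨_, h1.inv h⟩

theorem smul_mem_eiSub (h : UAlt f j d) (hM : semiGL K ⊓ iso f ≤ M) {v s w : ι → F}
    (hs : f s (j • s) ≠ 0) (hsv : hm f j v s = 0) (hw : w ∈ eiSub h.alt M v)
    (hws : hm f j w s ≠ 0) (κ : K) : κ • s ∈ eiSub h.alt M v := by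
  have h1 : ∀ l : K, (∀ x y, f (l • x) (l • y) = f x y) → ∀ w ∈ eiSub h.alt M v,
      ((l - 1) * (hm f j w s / hm f j s s)) • s ∈ eiSub h.alt M v := fun l hl w ⟨c, hw⟩ => by
    obtain ⟨g, hg, h1⟩ := h.exists_qr hs hl
    have h2 := hw.conj (hM hg) hg.2
    rw [h1, h1, hsv, zero_div, mul_zero, zero_smul, add_zero] at h2
    simpa using sub_mem (show _ ∈ eiSub h.alt M v from ⟨c, h2⟩) (show _ ∈ eiSub h.alt M v from ⟨c, hw⟩)
  let R : Subring K :=
    { carrier := {l | ∀ a : K, a • s ∈ eiSub h.alt M v → (l * a) • s ∈ eiSub h.alt M v}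
      mul_mem' := fun {x y} hx hy a ha => by rw [mul_assoc]; exact hx _ (hy a ha)
      one_mem' := fun a ha => by rwa [one_mul]
      add_mem' := fun {x y} hx hy a ha => by
        rw [add_mul, add_smul]; exact add_mem (hx a ha) (hy a ha)
      zero_mem' := fun a _ => by simp
      neg_mem' := fun {x} hx a ha => by rw [neg_mul, neg_smul]; exact neg_mem (hx a ha) }
  have h2 : ∀ l, l ∈ R := h.subring_eq_top fun l hl a ha => by
    have h3 := add_mem (h1 l hl _ ha) ha
    rw [h.hm_smul, mul_div_cancel_right₀ _ (h.hm_ne hs), ← add_smul] at h3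
    convert h3 using 2
    ring
  have h3 : (-1 - 1 : K) ≠ 0 := by
    rw [show (-1 - 1 : K) = -algebraMap F K 2 by rw [map_ofNat]; norm_num, neg_ne_zero, map_ne_zero]
    exact h.two
  have h4 := h2 (κ / ((-1 - 1) * (hm f j w s / hm f j s s))) _ (h1 _ h.neg_one w hw)
  rwa [div_mul_cancel₀ _ (mul_ne_zero h3 (div_ne_zero hws (h.hm_ne hs)))] at h4

theorem add_smul_self (h : UAlt f j d) {x s : ι → F} (hx : hm f j x s = 0) (a b : F) :
    f (x + (a • s + b • j • s)) (j • (x + (a • s + b • j • s))) =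
      f x (j • x) + (a ^ 2 - d * b ^ 2) * f s (j • s) := by
  obtain ⟨h1, h2⟩ := h.hm_eq_zero.1 hx
  obtain ⟨h3, h4⟩ := h.hm_eq_zero.1 (h.hm_comm hx)
  simp only [smul_add, smul_comm j a, smul_comm j b, h.jj, h.alt.add_left, h.alt.add_right,
    h.alt.smul_left, h.alt.smul_right', h.skew, h1, h2, h3, h4, h.alt.alt]
  ring

theorem mem_eiSub (h : UAlt f j d) (hM : semiGL K ⊓ iso f ≤ M) {v s : ι → F}
    (hs : f s (j • s) ≠ 0) (hsv : hm f j s v = 0) (hK : ∀ κ : K, κ • s ∈ eiSub h.alt M v)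
    {x : ι → F} (hx : hm f j x v = 0) : x ∈ eiSub h.alt M v := by
  set x' := x - (hm f j x s / hm f j s s) • s with hx'
  have h1 : hm f j x' s = 0 := h.hm_proj hs x
  have h2 : hm f j x' v = 0 := by rw [hx', h.hm_sub, h.hm_smul, hx, hsv, mul_zero, sub_zero]
  obtain ⟨a, b, h3, h4⟩ : ∃ a b : F, (a ≠ 0 ∨ b ≠ 0) ∧
      f x' (j • x') + (a ^ 2 - d * b ^ 2) * f s (j • s) ≠ 0 := by
    by_contra! hc
    exact hs (by linear_combination hc 1 1 (by simp) - hc 0 1 (by simp))
  have h5 : (algebraMap F K a + b • j) • s = a • s + b • j • s := by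
    rw [add_smul, algebraMap_smul, smul_assoc]
  have h6 : algebraMap F K a + b • j ≠ 0 := fun h0 => by
    rcases eq_or_ne b 0 with rfl | hb
    · simp_all
    refine h.notMem (-a / b) ?_
    rw [map_div₀, div_eq_iff ((map_ne_zero _).2 hb), map_neg, mul_comm, ← Algebra.smul_def]
    exact neg_eq_of_add_eq_zero_right h0
  rw [← h.add_smul_self h1, ← h5] at h4
  have h7 := h.smul_mem_eiSub hM h4 (h.hm_comm (by
    rw [h.hm_add, h.hm_smul, h2, hsv, mul_zero, add_zero])) (hK 1) (fun h0 => by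
      have := h.hm_comm h0
      rw [one_smul, h.hm_add, h.hm_smul, h1, zero_add] at this
      exact mul_ne_zero h6 (h.hm_ne hs) this) 1
  rw [one_smul] at h7
  simpa [hx'] using add_mem (sub_mem h7 (hK (algebraMap F K a + b • j)))
    (hK (hm f j x s / hm f j s s))

theorem iso_le_of_ei (h : UAlt f j d) (hM : semiGL K ⊓ iso f ≤ M) {v w : ι → F}
    (hv : f v (j • v) ≠ 0) (hwv : hm f j w v = 0) (hw0 : w ≠ 0) (hw : w ∈ eiSub h.alt M v) :
    iso f ≤ M := by
  obtain ⟨s, hs, hsv, hws⟩ : ∃ s, f s (j • s) ≠ 0 ∧ hm f j s v = 0 ∧ hm f j w s ≠ 0 := by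
    by_cases h1 : f w (j • w) = 0
    swap
    · exact ⟨w, h1, hwv, h.hm_ne h1⟩
    have hj : j ≠ 0 := fun h0 => h.notMem 0 (by rw [h0, map_zero])
    obtain ⟨x₀, hx₀⟩ := exists_form_ne_zero h.alt.toSForm (smul_ne_zero hj hw0)
    set x := x₀ - (hm f j x₀ v / hm f j v v) • v
    have h2 : hm f j x v = 0 := h.hm_proj hv x₀
    have h3 : f x (j • w) ≠ 0 := by
      have := (h.hm_eq_zero.1 (show hm f j ((hm f j x₀ v / hm f j v v) • v) w = 0 by
        rw [h.hm_smul, h.hm_comm hwv, mul_zero])).2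
      rwa [h.alt.sub_left, this, sub_zero]
    by_cases h4 : f x (j • x) = 0
    · refine ⟨x + w, ?_, by rw [h.hm_add, h2, hwv, add_zero], fun h0 => h3 ?_⟩
      · rw [smul_add, h.alt.add_left, h.alt.add_right, h.alt.add_right, h4, h1, h.symm w x,
          zero_add, add_zero, ← two_mul]
        exact mul_ne_zero h.two h3
      · have := (h.hm_eq_zero.1 (h.hm_comm h0)).2
        rwa [h.alt.add_left, h1, add_zero] at this
    · exact ⟨x, h4, h2, fun h0 => h3 (h.hm_eq_zero.1 (h.hm_comm h0)).2⟩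
  have hK := h.smul_mem_eiSub hM hs (h.hm_comm hsv) hw hws
  have hL : Lr M f v := fun c => by
    obtain ⟨a, ha⟩ := hK 1
    obtain ⟨b, hb⟩ := hK ((c / (2 * f s (j • s))) • j)
    have h1 := (hb.mul h.alt ha).div h.alt (ha.mul h.alt hb)
    rw [add_comm, sub_self, h.alt.alt, one_smul, smul_assoc, h.alt.smul_left, h.alt.smul_right',
      h.skew] at h1
    convert h1 using 1
    have := h.two
    field_simp
    ring
  obtain ⟨g, hg, h1⟩ := h.exists_qr hv (h.cayley 1)
  refine h.alt.iso_le_of_full (w := v) (fun z c hz => ?_) (hL.conj (hM hg) hg.2) fun h0 => ?_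
  · have h2 : hm f j (z - (f z (j • v) / f v (j • v)) • v) v = 0 := h.hm_eq_zero.2 <| by
      simp only [h.alt.sub_left, h.alt.smul_left, hz, h.alt.alt]
      exact ⟨by ring, by field_simp; ring⟩
    obtain ⟨a, ha⟩ := h.mem_eiSub hM hs hsv hK h2
    have h3 := ha.add_smul h.alt (f z (j • v) / f v (j • v))
    rw [sub_add_cancel] at h3
    simpa [h.alt.zero_left] using h3.mul h.alt (hL (c - (a - 2 * (f z (j • v) / f v (j • v)))))
  · rw [h1, div_self (h.hm_ne hv), mul_one, sub_smul, one_smul, one_smul, add_sub_cancel,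
      div_eq_mul_inv, mul_smul] at h0
    have h2 := smul_inv_smul₀ (h.one_sub_ne 1) v
    rw [one_smul] at h2
    set v' := (1 - j)⁻¹ • v
    have h3 := h.smul_ne hv (inv_ne_zero (h.one_sub_ne 1))
    rw [one_smul] at h3
    rw [← h2, add_smul, sub_smul, one_smul, h.alt.add_left, h.alt.sub_right, h.alt.sub_right,
      h.alt.alt, h.alt.alt, h.skew] at h0
    exact mul_ne_zero h.two h3 (by linear_combination -h0)

theorem exists_nonsing (h : UAlt f j d) (h5 : 5 ≤ Fintype.card ι) (u : ι → F) : ∃ s, f s (j • s) ≠ 0 ∧ hm f j s u = 0 := by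
  by_contra! hc
  have h1 : ∀ s, hm f j s u = 0 → f s (j • s) = 0 := fun s hs => by
    by_contra h0
    exact hc s h0 hs
  obtain ⟨x, hx, hx'⟩ := exists_mem_notMem_of_finrank_lt
    (W := dotKer (dv (RingHom.id F) f u) ⊓ dotKer (dv (RingHom.id F) f (j • u)))
    (U := Submodule.span F {u, j • u}) (by
      have := card_le_finrank_dotKer₂ (dv (RingHom.id F) f u) (dv (RingHom.id F) f (j • u))
      have := finrank_span_pair_le (F := F) u (j • u)
      omega)
  have h2 : hm f j x u = 0 := h.hm_eq_zero.2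
    ⟨by rw [← dv_dot h.alt.toSForm]; exact hx.1, by rw [← dv_dot h.alt.toSForm]; exact hx.2⟩
  obtain ⟨y, hy, hy'⟩ := exists_form_of_notMem h.alt.toSForm hx' 1
  have h3 : hm f j y u = 0 := h.hm_comm (h.hm_eq_zero.2
    ⟨hy _ (Submodule.subset_span (by simp)), by
      rw [← neg_eq_zero, ← h.skew]; exact hy _ (Submodule.subset_span (by simp))⟩)
  have hj : j ≠ 0 := fun h0 => h.notMem 0 (by rw [h0, map_zero])
  have h4 : hm f j (j⁻¹ • y) u = 0 := by rw [h.hm_smul, h3, mul_zero]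
  have h6 := h1 (x + j⁻¹ • y) (by rw [h.hm_add, h2, h4, add_zero])
  rw [smul_add, h.alt.add_left, h.alt.add_right, h.alt.add_right, h1 x h2, h1 _ h4,
    h.symm (j⁻¹ • y) x, smul_inv_smul₀ hj, hy'] at h6
  exact h.two (by linear_combination h6)

theorem iso_le_of_nonsing (h : UAlt f j d) (h5 : 5 ≤ Fintype.card ι)
    (hM : semiGL K ⊓ iso f ≤ M) (hMi : M ≤ iso f) {g : GL ι F} (hg : g ∈ M) {u : ι → F}
    (hu : f u (j • u) = 0) (hv : f (g.1 *ᵥ u) (j • g.1 *ᵥ u) ≠ 0) : iso f ≤ M := by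
  set v := g.1 *ᵥ u with hvu
  set x := (g⁻¹).1 *ᵥ (j • v) with hx
  have hgx : g.1 *ᵥ x = j • v := GL_mulVec_inv_mulVec _ _
  have hxu : f x u ≠ 0 := by rwa [← hMi hg, hgx, h.skew, neg_ne_zero]
  have huu : hm f j u u = 0 := h.hm_eq_zero.2 ⟨h.alt.alt u, hu⟩
  obtain ⟨s, hs, hsu, hxs⟩ : ∃ s, f s (j • s) ≠ 0 ∧ hm f j s u = 0 ∧ hm f j x s ≠ 0 := by
    obtain ⟨s, hs, hsu⟩ := h.exists_nonsing h5 u
    by_cases h1 : hm f j x s = 0
    · refine ⟨s + u, ?_, by rw [h.hm_add, hsu, huu, add_zero], fun h0 => hxu ?_⟩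
      · have := h.add_smul_self hsu 1 0
        simp only [one_smul, zero_smul, add_zero, hu, mul_zero] at this
        rwa [this]
      · have := h.hm_comm h0
        rw [h.hm_add, h.hm_comm h1, zero_add] at this
        exact (h.hm_eq_zero.1 (h.hm_comm this)).1
    · exact ⟨s, hs, hsu, h1⟩
  have h2 : (-1 - 1 : K) ≠ 0 := by
    rw [show (-1 - 1 : K) = -algebraMap F K 2 by rw [map_ofNat]; norm_num, neg_ne_zero, map_ne_zero]
    exact h.two
  obtain ⟨r, hr, h1⟩ := h.exists_qr hs h.neg_one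
  obtain ⟨z, hz, h3⟩ := h.exists_qr hv h.neg_one
  set p := ((-1 - 1) * (hm f j x s / hm f j s s)) • s with hp
  have hp1 : f p (j • p) ≠ 0 := h.smul_ne hs (mul_ne_zero h2 (div_ne_zero hxs (h.hm_ne hs)))
  have hp2 : f (g.1 *ᵥ p) v = 0 := by rw [hMi hg, h.f_smul_left hsu]
  set a := f (g.1 *ᵥ p) (j • v) / f v (j • v) with ha
  set w := g.1 *ᵥ p - a • v with hw
  have hwv : hm f j w v = 0 := h.hm_eq_zero.2 <| by
    simp only [hw, ha, h.alt.sub_left, h.alt.smul_left, hp2, h.alt.alt]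
    exact ⟨by ring, by field_simp; ring⟩
  have hw0 : w ≠ 0 := fun h0 => hp1 <| by
    rw [hw, sub_eq_zero, hvu, ← mulVec_smul] at h0
    rw [GL_mulVec_injective g h0, smul_comm j a, h.alt.smul_left, h.alt.smul_right', hu]
    simp
  set y := g * r * g⁻¹ with hy
  have hyM : y ∈ M := mul_mem (mul_mem hg (hM hr)) (inv_mem hg)
  have hyv : y.1 *ᵥ v = v := by
    rw [hy, GL_mul_mulVec, GL_mul_mulVec, hvu, GL_inv_mulVec_mulVec, h1, h.hm_comm hsu]
    simp
  have hyj : y.1 *ᵥ (j • v) = j • v + (w + a • v) := by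
    rw [hy, GL_mul_mulVec, GL_mul_mulVec, ← hx, h1, mulVec_add, hgx, hw, sub_add_cancel]
  have hzv : ∀ κ : K, z.1 *ᵥ (κ • v) = -(κ • v) := fun κ => by
    rw [h3, h.hm_smul, mul_div_cancel_right₀ _ (h.hm_ne hv)]
    module
  have hzv' : z.1 *ᵥ v = -v := by simpa using hzv 1
  have hzw : z.1 *ᵥ w = w := by rw [h3, hwv]; simp
  have hz1 : ∀ x, f x v = 0 → ∃ b : F, z.1 *ᵥ x = x + b • v := fun x hx => by
    refine ⟨-2 * (f x (j • v) / f v (j • v)), ?_⟩
    rw [h3, h.hm_self, hm, hx, map_zero, zero_mul, sub_zero, ← map_div₀,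
      ← algebraMap_smul K (-2 * _ : F), map_mul, map_neg, map_ofNat]
    norm_num
  have hyv' : (y⁻¹).1 *ᵥ v = v := by rw [← hyv, GL_inv_mulVec_mulVec, hyv]
  have h4 : f (j • v) v ≠ 0 := by rwa [h.skew, neg_ne_zero]
  have h6 := Ei.of_trivial h.alt (e := z * y * z * y⁻¹) (v := v)
    (mul_mem (mul_mem (mul_mem (hM hz) hyM) (hM hz)) (inv_mem hyM))
    (hMi (mul_mem (mul_mem (mul_mem (hM hz) hyM) (hM hz)) (inv_mem hyM)))
    (x₀ := (f (j • v) v)⁻¹ • y.1 *ᵥ (j • v))
    (by rw [h.alt.smul_left, ← hyv, hMi hyM, hyv, inv_mul_cancel₀ h4])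
    (by simp only [GL_mul_mulVec, hyv', hzv', mulVec_neg, hyv, neg_neg])
    fun x hx => by
      obtain ⟨b, hb⟩ := hz1 ((y⁻¹).1 *ᵥ x) (by rw [← hyv', hMi (inv_mem hyM), hx])
      obtain ⟨c, hc⟩ := hz1 x hx
      refine ⟨c - b, ?_⟩
      simp only [GL_mul_mulVec, hb, mulVec_add, mulVec_smul, GL_mulVec_inv_mulVec, hyv, hc, hzv']
      module
  refine h.iso_le_of_ei hM hv (w := (-2 * (f (j • v) v)⁻¹) • w) ?_
    (smul_ne_zero (mul_ne_zero (neg_ne_zero.2 h.two) (inv_ne_zero h4)) hw0) ?_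
  · rw [← algebraMap_smul K, h.hm_smul, hwv, mul_zero]
  · convert (show _ ∈ eiSub h.alt M v from ⟨_, h6⟩) using 1
    simp only [GL_mul_mulVec, mulVec_smul, GL_inv_mulVec_mulVec, hzv, mulVec_neg]
    simp only [hyj, mulVec_add, mulVec_smul, hzv, hzw, hzv']
    generalize j • v = v'
    module

theorem sForm (h : UAlt f j d) : SForm (RingHom.id F) 1 fun x y => f x (j • y) where
  add_left x y v := h.alt.add_left _ _ _
  smul_left c x v := h.alt.smul_left _ _ _
  herm u v := by simpa using h.symm u v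
  nondeg v hv := by
    have hj : j ≠ 0 := fun h0 => h.notMem 0 (by rw [h0, map_zero])
    exact (smul_eq_zero.1 (h.alt.nondeg _ hv)).resolve_left hj
  invol _ := rfl
  eps := by simp

theorem iso_le [Finite F] (h : UAlt f j d) (h5 : 5 ≤ Fintype.card ι)
    (hM : semiGL K ⊓ iso f ≤ M) (hMi : M ≤ iso f) {g : GL ι F} (hg : g ∈ M)
    (hg' : g ∉ semiGL K) : iso f ≤ M := by
  by_contra hn
  have h1 : ∀ u, f u (j • u) = 0 → f (g.1 *ᵥ u) (j • g.1 *ᵥ u) = 0 := fun u hu => by
    by_contra hv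
    exact hn (h.iso_le_of_nonsing h5 hM hMi hg hu hv)
  obtain ⟨c, hc⟩ := (tForm_of_herm h.sForm (t := 2⁻¹) (by
      have := h.two
      simp only [RingHom.id_apply]
      field_simp
      ring)).mem_sim_of_perp h5 (g := g) fun x y hx hy hxy => by
    have h2 := h1 (x + y) (by
      rw [smul_add, h.alt.add_left, h.alt.add_right, h.alt.add_right, hx, hy, h.symm y x, hxy]
      simp)
    rw [mulVec_add, smul_add, h.alt.add_left, h.alt.add_right, h.alt.add_right, h1 x hx, h1 y hy,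
      h.symm (g.1 *ᵥ y), zero_add, add_zero, ← two_mul] at h2
    exact (mul_eq_zero.1 h2).resolve_left h.two
  have h2 : ∀ y, g.1 *ᵥ (j • y) = (c.1⁻¹ • j) • g.1 *ᵥ y := fun y => by
    refine h.alt.ext_right fun x => ?_
    obtain ⟨x, rfl⟩ : ∃ x', g.1 *ᵥ x' = x := ⟨_, GL_mulVec_inv_mulVec g x⟩
    have h3 : f (g.1 *ᵥ x) (j • g.1 *ᵥ y) = c * f x (j • y) := hc x y
    rw [hMi hg, smul_assoc, h.alt.smul_right', h3, inv_mul_cancel_left₀ c.ne_zero]
  refine hg' (mem_semiGL_of_forall fun κ => ?_)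
  obtain ⟨a, b, hab⟩ := h.span κ
  refine ⟨algebraMap F K a + b • c.1⁻¹ • j, fun x => ?_⟩
  rw [hab, mulVec_add, mulVec_smul, mulVec_smul, h2, add_smul, algebraMap_smul,
    smul_assoc b]

end UAlt

theorem exists_uAlt (h : Alt f) (h2 : (2 : F) ≠ 0) (hr : finrank F K = 2)
    (ha : ∀ κ : K, ∃ κ' : K, ∀ x y, f (κ • x) y = f x (κ' • y))
    (hs : ¬ ∀ (κ : K) x y, f (κ • x) y = f x (κ • y)) : ∃ (j : K) (d : F), UAlt f j d := by
  push Not at hs
  obtain ⟨κ, x₀, y₀, h0⟩ := hs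
  obtain ⟨κ', hκ⟩ := ha κ
  have h1 : ∀ x y, f ((κ - κ') • x) y = -f x ((κ - κ') • y) := fun x y => by
    rw [sub_smul, sub_smul, h.sub_left, h.sub_right, hκ, h.skew (κ' • x), ← hκ y x, h.skew (κ • y)]
    ring
  have h3 : f x₀ ((κ - κ') • y₀) ≠ 0 := by
    rw [sub_smul, h.sub_right, ← hκ, sub_ne_zero]
    exact h0.symm
  have h4 : ∀ c : F, algebraMap F K c ≠ κ - κ' := fun c hc => by
    have := h1 x₀ y₀
    rw [← hc, algebraMap_smul, algebraMap_smul, h.smul_left, h.smul_right'] at this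
    rw [← hc, algebraMap_smul, h.smul_right'] at h3
    exact mul_ne_zero h2 h3 (by linear_combination this)
  obtain ⟨a, b, hab⟩ := exists_add_smul_of_finrank_two hr h4 ((κ - κ') * (κ - κ'))
  refine ⟨κ - κ', a, h, h1, hr, ?_, h4, h2⟩
  have h5 : f (((κ - κ') * (κ - κ')) • x₀) y₀ = f x₀ (((κ - κ') * (κ - κ')) • y₀) := by
    rw [mul_smul, mul_smul, h1, h1, neg_neg]
  rw [hab, add_smul, add_smul, algebraMap_smul, algebraMap_smul, smul_assoc, smul_assoc,
    h.add_left, h.add_right, h.smul_left, h.smul_left, h.smul_right', h.smul_right', h1] at h5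
  have h6 : b = 0 := (mul_eq_zero.1 (show b * (2 * f x₀ ((κ - κ') • y₀)) = 0 by
    linear_combination -h5)).resolve_right (mul_ne_zero h2 h3)
  rw [hab, h6, zero_smul, add_zero]

theorem isMaximalIn_unitaryField [Finite F] (h : Alt f) (h2 : (2 : F) ≠ 0)
    (h5 : 5 ≤ Fintype.card ι) {K : Subalgebra F (Matrix ι ι F)} (hK : IsFieldSubalgebra 2 K)
    (ha : IsAdjointClosedFor f K) (hs : ¬ IsSelfAdjointFor f K) :
    IsMaximalIn (iso f) (subalgebraNormalizer K ⊓ iso f) := by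
  have : Nonempty ι := Fintype.card_pos_iff.1 (by omega)
  let _ := (Asch.isField_of_isFieldSubalgebra hK).toField
  rw [subalgebraNormalizer_eq hK]
  obtain ⟨j, d, hj⟩ := exists_uAlt (K := K) h h2 hK.finrank_eq
    (fun κ => (ha κ κ.2).elim fun k hk => ⟨⟨k, hk.1⟩, hk.2⟩) fun h0 => hs fun k hk => h0 ⟨k, hk⟩
  exact isMaximalIn_inf (h.not_iso_le_semiGL hK.finrank_eq.ge (by omega))
    fun M hM hMi g hg hg' => hj.iso_le h5 hM hMi hg hg'

end Cfsg.Lib.Symp
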