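import Cfsg.Agent.Lib.Symp.AutType
import Cfsg.Agent.Lib.Symp.Basis
import Cfsg.Agent.Lib.Linear.Descent

/-!
# Galois descent for `GSp`, field automorphisms of `PSp`
-/

namespace Cfsg.Lib.Symp

open Matrix Module Cfsg.Lib.Linear
open scoped MatrixGroups

variable {m : ℕ} {F : Type*} [Field F]

theorem toBilin'_congr {ι : Type*} [Fintype ι] [DecidableEq ι] (A P : Matrix ι ι F)
    (u v : ι → F) : toBilin' A (P *ᵥ u) (P *ᵥ v) = toBilin' (Pᵀ * A * P) u v := by
  rw [toBilin'_apply', toBilin'_apply', ← mulVec_mulVec, ← mulVec_mulVec, dotProduct_mulVec u,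
    vecMul_transpose]

theorem mem_GSp_iff_transpose {g : GL (Fin m ⊕ Fin m) F} :
    g ∈ Cfsg.GSp m F ↔ ∃ c : Fˣ, g.1ᵀ * J (Fin m) F * g.1 = (c : F) • J (Fin m) F := by
  rw [mem_GSp_iff]
  refine exists_congr fun c => ?_
  rw [← toBilin'.injective.eq_iff, map_smul]
  simp only [bil, toBilin'_congr, LinearMap.BilinForm.ext_iff, LinearMap.smul_apply, smul_eq_mul]

/-- An invertible alternating matrix is congruent to `J`. -/
theorem exists_congr_J {l : Type*} [Fintype l] [DecidableEq l] {A : Matrix (l ⊕ l) (l ⊕ l) F}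
    (hA : (toBilin' A).IsAlt) (hd : A.det ≠ 0) :
    ∃ P : GL (l ⊕ l) F, P.1ᵀ * A * P.1 = J l F := by
  obtain ⟨e, he⟩ := exists_isometry_of_finrank_eq (bil_isAlt l F) (bil_nondegenerate l F) hA
    (LinearMap.BilinForm.nondegenerate_toBilin'_of_det_ne_zero' A hd) rfl
  let P : GL (l ⊕ l) F := (GeneralLinearGroup.toLin.trans
    (LinearMap.GeneralLinearGroup.generalLinearEquiv F _)).symm e
  have hP : ∀ v, P.1 *ᵥ v = e v := fun v => LinearMap.toMatrix'_mulVec _ v
  refine ⟨P, toBilin'.injective (LinearMap.BilinForm.ext fun u v => ?_)⟩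
  rw [← toBilin'_congr, hP, hP, he]
  rfl

theorem isAlt_of_map {ι K : Type*} [Fintype ι] [DecidableEq ι] [Field K] (φ : K →+* F)
    {N : Matrix ι ι K} (h : (toBilin' (N.map φ)).IsAlt) : (toBilin' N).IsAlt := by
  intro v
  apply φ.injective
  have := h (φ ∘ v)
  rw [toBilin'_apply', map_mulVec_comp] at this
  rw [map_zero, ← this, toBilin'_apply']
  exact φ.map_dotProduct _ _

theorem J_map {l K : Type*} [DecidableEq l] [Field K] (φ : K →+* F) : (J l K).map φ = J l F := by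
  ext (i | i) (j | j) <;> simp [J, one_apply, apply_ite φ]

theorem map_mem_GSp_iff {K : Type*} [Field K] (φ : K →+* F) {g : GL (Fin m ⊕ Fin m) K} :
    GeneralLinearGroup.map φ g ∈ Cfsg.GSp m F ↔ g ∈ Cfsg.GSp m K := by
  rw [mem_GSp_iff_transpose, mem_GSp_iff_transpose]
  have h1 : (GeneralLinearGroup.map φ g).1ᵀ * J (Fin m) F * (GeneralLinearGroup.map φ g).1 =
      (g.1ᵀ * J (Fin m) K * g.1).map φ := by
    rw [Matrix.map_mul, Matrix.map_mul, J_map, transpose_map]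
    rfl
  rw [h1]
  constructor
  · rintro ⟨c, hc⟩
    rcases Nat.eq_zero_or_pos m with rfl | hm
    · exact ⟨1, Subsingleton.elim _ _⟩
    let i : Fin m := ⟨0, hm⟩
    have h2 := congrFun (congrFun hc (Sum.inr i)) (Sum.inl i)
    rw [map_apply] at h2
    simp only [J, Matrix.smul_apply, fromBlocks_apply₂₁, one_apply_eq, smul_eq_mul, mul_one] at h2
    refine ⟨Units.mk0 ((g.1ᵀ * J (Fin m) K * g.1) (Sum.inr i) (Sum.inl i)) fun h0 => ?_, ?_⟩
    · apply c.ne_zero
      rw [← h2]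
      exact (congrArg φ h0).trans (map_zero φ)
    · apply Matrix.map_injective φ.injective
      dsimp only
      rw [hc, Matrix.map_smul' _ _ _ (map_mul φ), J_map]
      exact congrArg (· • _) h2.symm
  · rintro ⟨c, hc⟩
    refine ⟨Units.map (φ : K →* F) c, ?_⟩
    rw [hc, Matrix.map_smul' _ _ _ (map_mul φ), J_map]
    rfl

/-- `GSp` over a subfield. -/
def mapGSp {K : Type*} [Field K] (φ : K →+* F) : Cfsg.GSp m K →* Cfsg.GSp m F :=
  ((GeneralLinearGroup.map φ).comp (Cfsg.GSp m K).subtype).codRestrict _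
    fun g => (map_mem_GSp_iff φ).2 g.2

theorem mapGSp_coe {K : Type*} [Field K] (φ : K →+* F) (g : Cfsg.GSp m K) :
    (mapGSp φ g).1 = GeneralLinearGroup.map φ g.1 := rfl

theorem fieldGSp_coe' (σ : F ≃+* F) (g : Cfsg.GSp m F) : (fieldGSp σ g).1 = fieldGL σ g.1 := rfl

theorem range_mapGSp {K : Type*} [Field K] {σ : F ≃+* F} {φ : K →+* F}
    (hφ : ∀ x, σ x = x ↔ x ∈ φ.range) :
    (mapGSp φ : Cfsg.GSp m K →* _).range = fixSub (fieldGSp σ) := by
  ext g
  rw [mem_fixSub, Subtype.ext_iff, fieldGSp_coe', ← mem_fixSub, ← range_map_GL hφ]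
  constructor
  · rintro ⟨g, rfl⟩
    exact ⟨g.1, rfl⟩
  · rintro ⟨k, hk⟩
    exact ⟨⟨k, (map_mem_GSp_iff φ).1 (hk ▸ g.2)⟩, Subtype.ext hk⟩

theorem scalars_eq_center {ι : Type} [Fintype ι] [DecidableEq ι] :
    Cfsg.Geo.scalars ι F = Subgroup.center (GL ι F) :=
  GeneralLinearGroup.center_eq_range_scalar.symm

theorem mapGSp_mem_range_scalarGSp {K : Type*} [Field K] (φ : K →+* F) (g : Cfsg.GSp m K) :
    g ∈ (Cfsg.Geo.scalars (Fin m ⊕ Fin m) K).subgroupOf (Cfsg.GSp m K) ↔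
      mapGSp φ g ∈ (scalarGSp : Fˣ →* _).range := by
  rw [range_scalarGSp, Subgroup.mem_subgroupOf, Subgroup.mem_subgroupOf, scalars_eq_center,
    scalars_eq_center, mapGSp_coe, map_GL_mem_center_iff]

theorem mult_fieldGSp' [NeZero m] (σ : F ≃+* F) (g : Cfsg.GSp m F) :
    mult (fieldGSp σ g) = unitsAut σ (mult g) := mult_fieldGSp σ g

theorem fieldGSp_diagGSp (σ : F ≃+* F) (c : Fˣ) :
    fieldGSp σ (diagGSp c : Cfsg.GSp m F) = diagGSp (unitsAut σ c) := by
  refine Subtype.ext (Units.ext ?_)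
  rw [fieldGSp_coe', fieldGL_coe, diagGSp_coe, diagGSp_coe, diagonal_map (map_zero _)]
  congr 1
  ext (i | i) <;> simp

theorem map_mult_fixSub [NeZero m] (σ : F ≃+* F) :
    (fixSub (fieldGSp σ : MulAut (Cfsg.GSp m F))).map mult = fixSub (unitsAut σ) := by
  ext u
  constructor
  · rintro ⟨g, hg, rfl⟩
    rw [mem_fixSub, ← mult_fieldGSp', mem_fixSub.1 hg]
  · intro hu
    exact ⟨diagGSp u, by rw [SetLike.mem_coe, mem_fixSub, fieldGSp_diagGSp, mem_fixSub.1 hu],
      mult_diagGSp u⟩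

theorem transpose_mul_J_mul [NeZero m] (g : Cfsg.GSp m F) :
    g.1.1ᵀ * J (Fin m) F * g.1.1 = (mult g : F) • J (Fin m) F := by
  rw [← toBilin'.injective.eq_iff, map_smul]
  refine LinearMap.BilinForm.ext fun u v => ?_
  rw [← toBilin'_congr]
  exact mult_spec g u v

/-- Lang's theorem for `GSp` and a field automorphism. -/
theorem lang_GSp [NeZero m] {σ : F ≃+* F} (hσ : 0 < orderOf σ) {g : Cfsg.GSp m F}
    (hg : nrm (fieldGSp σ) g (orderOf σ) = 1) : ∃ h, g = h * (fieldGSp σ h)⁻¹ := by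
  obtain ⟨w, hw⟩ := hilbert90_units hσ (u := mult g) (by
    rw [← map_nrm mult (mult_fieldGSp' σ), hg, map_one])
  set g' := (diagGSp w)⁻¹ * g * fieldGSp σ (diagGSp w) with hg'
  have h1 : nrm (fieldGSp σ) g' (orderOf σ) = 1 := by
    rw [hg', nrm_twisted_conj, hg, ← map_pow, pow_orderOf_eq_one, map_one, MulAut.one_apply,
      mul_one, inv_mul_cancel]
  have h2 : mult g' = 1 := by
    rw [hg', map_mul, map_mul, map_inv, mult_fieldGSp', mult_diagGSp, hw]
    group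
  obtain ⟨h, hh⟩ := lang_GL hσ (g := g'.1) (by
    have := map_nrm (Cfsg.GSp m F).subtype (α := fieldGSp σ) (β := fieldGL σ) (fun _ => rfl) g'
      (orderOf σ)
    rw [h1, map_one] at this
    exact this.symm)
  have h3 : g'.1.1 * h.1.map σ = h.1 := congrArg Units.val (eq_mul_inv_iff_mul_eq.1 hh)
  have h4 : (h.1ᵀ * J (Fin m) F * h.1).map σ = h.1ᵀ * J (Fin m) F * h.1 := by
    have h5 := transpose_mul_J_mul g'
    rw [h2, Units.val_one, one_smul] at h5
    have h6 := J_map (l := Fin m) (σ : F →+* F)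
    rw [RingHom.coe_coe] at h6
    rw [Matrix.map_mul, Matrix.map_mul, h6, transpose_map]
    conv_rhs => rw [← h3, transpose_mul]
    conv_lhs => rw [← h5]
    simp only [mul_assoc]
  let φ := (fixField σ).subtype
  have hφ : ∀ x, σ x = x ↔ x ∈ φ.range := fun x => by simp [φ]
  obtain ⟨N, hN⟩ := exists_map_eq_of_fixed hφ h4
  obtain ⟨k, hk⟩ := exists_congr_J (A := N) (isAlt_of_map φ (by
    rw [hN]
    intro v
    rw [← toBilin'_congr]
    exact bil_isAlt _ _ _)) (by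
    refine (isUnit_iff_ne_zero.1 ((isUnit_iff_isUnit_det _).1 (isUnit_of_map (φ := φ) ?_)))
    rw [hN, isUnit_iff_isUnit_det, det_mul, det_mul, det_transpose]
    exact (h.isUnit.map detMonoidHom).mul (isUnit_det_J _ _) |>.mul (h.isUnit.map detMonoidHom))
  have h7 : h * GeneralLinearGroup.map φ k ∈ Cfsg.GSp m F := by
    refine mem_GSp_iff_transpose.2 ⟨1, ?_⟩
    rw [Units.val_one, one_smul]
    conv_rhs => rw [← J_map φ, ← hk, Matrix.map_mul, Matrix.map_mul, hN, transpose_map]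
    rw [Units.val_mul, transpose_mul]
    simp only [mul_assoc]
    rfl
  have h8 : fieldGL σ (GeneralLinearGroup.map φ k) = GeneralLinearGroup.map φ k := by
    rw [← mem_fixSub, ← range_map_GL hφ]
    exact ⟨k, rfl⟩
  have h9 : g' = ⟨_, h7⟩ * (fieldGSp σ ⟨_, h7⟩)⁻¹ := by
    refine Subtype.ext ?_
    rw [hh, Subgroup.coe_mul, Subgroup.coe_inv, fieldGSp_coe', map_mul, h8]
    group
  refine ⟨diagGSp w * ⟨_, h7⟩, ?_⟩
  rw [map_mul, _root_.mul_inv_rev, mul_assoc, ← mul_assoc _ _ (fieldGSp σ (diagGSp w))⁻¹, ← h9,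
    hg']
  group

theorem isTwist_fieldAutSp [NeZero m] [Finite F] (σ : F ≃+* F) :
    IsTwist (innDiagSp : Cfsg.GSp m F →* _) (fieldAutSp σ) (fieldGSp σ) scalarGSp
      (unitsAut σ) (orderOf σ) where
  comm := fieldAutSp_mul_innDiagSp σ
  ker := ker_innDiagSp.trans range_scalarGSp.symm
  central u := Subgroup.mem_center_iff.2 fun g => (scalarGSp_commute u g).symm
  inj := scalarGSp_injective
  map_s u := Subtype.ext (scalar_unitsAut σ u)
  pow_α := by rw [← map_pow, pow_orderOf_eq_one, map_one]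
  pow_x := by rw [← map_pow, pow_orderOf_eq_one, map_one]
  lang _ := lang_GSp (orderOf_pos σ)
  h90 _ := hilbert90_units (orderOf_pos σ)
  norm _ := exists_nrm_unitsAut_eq

theorem innDiagSp_mem_inn_iff_mult [NeZero m] [Finite F] {g : Cfsg.GSp m F} :
    innDiagSp g ∈ Cfsg.Inn (Cfsg.PSp m F) ↔ mult g ∈ (powMonoidHom 2 : Fˣ →* Fˣ).range :=
  innDiagSp_mem_inn_iff

theorem gcd_two_geom {q r : ℕ} (hq : 2 ≤ q) (hr : 0 < r) :
    Nat.gcd 2 ((q ^ r - 1) / (q - 1)) = Nat.gcd (Nat.gcd 2 (q ^ r - 1)) r := by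
  rw [← Nat.geomSum_eq hq]
  rcases Nat.even_or_odd q with h | h
  · have h1 : Odd (q ^ r - 1) :=
      Nat.Even.sub_odd (Nat.one_le_pow _ _ (by omega)) (Nat.even_pow.2 ⟨h, hr.ne'⟩) odd_one
    have h2 : Odd (∑ k ∈ Finset.range r, q ^ k) := by
      obtain ⟨s, rfl⟩ := Nat.exists_eq_succ_of_ne_zero hr.ne'
      rw [Finset.sum_range_succ', pow_zero]
      exact Even.add_one (Finset.even_sum _ fun k _ => Nat.even_pow.2 ⟨h, k.succ_ne_zero⟩)
    rw [Nat.coprime_two_left.2 h1, Nat.coprime_two_left.2 h2, Nat.gcd_one_left]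
  · have h1 : 2 ∣ q ^ r - 1 := (Nat.Odd.sub_odd h.pow odd_one).two_dvd
    rw [Nat.gcd_eq_left h1, Nat.gcd_rec, Nat.gcd_rec 2 r, Finset.sum_nat_mod]
    congr 2
    rw [Finset.sum_congr rfl fun k _ => Nat.odd_iff.1 (h.pow (n := k))]
    simp

end Cfsg.Lib.Symp
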