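import Cfsg.Agent.Lib.Symp.MaxRed

/-!
# The stabiliser of a pair of complementary Lagrangian subspaces is maximal in `Sp` (odd order)
-/

namespace Cfsg.Lib.Symp

open Matrix Module Cfsg.Geo Cfsg.Lib.Asch Cfsg.Lib.Linear
open scoped MatrixGroups

variable {ι : Type} [Fintype ι] [DecidableEq ι] {F : Type*} [Field F]
  {f : (ι → F) → (ι → F) → F} {M : Subgroup (GL ι F)}

theorem Ei.of_shift (h : Alt f) {u v w : ι → F} {α β : F} (h1 : Ei M f (v + α • u) (w + β • u) 0)
    (h2 : Ei M f v w 0) (hv : f v u = 0) (hw : f w u = 0) :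
    Ei M f u (α • w + β • v) (2 * α * β) := by
  obtain ⟨-, g, hg, hg'⟩ := h1
  obtain ⟨h0, k, hk, hk'⟩ := h2.inv h
  rw [h.neg_left, neg_eq_zero] at h0
  refine ⟨by simp [h.add_left, h.smul_left, hv, hw], g * k, M.mul_mem hg hk, fun x => ?_⟩
  simp only [GL_mul_mulVec, hg', hk', h.add_left, h.add_right, h.smul_left, h.smul_right', hv, hw,
    h.alt, h.neg_left, h.neg_right, h0, h.map_eq_zero.1 h0]
  module

theorem Lr.of_mem_span_pair (h : Alt f) {u v : ι → F} (hu : Lr M f u) (hv : Lr M f v)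
    (huv : f u v ≠ 0) : ∀ x ∈ Submodule.span F {u, v}, Lr M f x := fun x hx => by
  obtain ⟨a, b, rfl⟩ := Submodule.mem_span_pair.1 hx
  by_cases ha : a = 0
  · simpa [ha] using hv.smul h b
  · exact (hu.smul h a).add_smul h hv (by rw [h.smul_left]; exact mul_ne_zero ha huv) b

theorem big_span_pair {u v : ι → F} (ha : ∃ a : F, a ≠ 0 ∧ a ≠ 1) (huv : f u v ≠ 0) :
    Big f (Submodule.span F {u, v}) :=
  Or.inl ⟨ha, v, Submodule.subset_span (by simp), u, Submodule.subset_span (by simp), huv⟩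

/-- Two complementary totally isotropic subspaces whose stabiliser lies in `M`. -/
structure LagPair (f : (ι → F) → (ι → F) → F) (M : Subgroup (GL ι F))
    (U U' : Submodule F (ι → F)) : Prop where
  left : IsTotallySingularFor f U
  right : IsTotallySingularFor f U'
  sup : ∀ x, ∃ a ∈ U, ∃ a' ∈ U', a + a' = x
  three_le : 3 ≤ finrank F U
  three_le' : 3 ≤ finrank F U'
  mem : ∀ g ∈ iso f, (∀ x ∈ U, g.1 *ᵥ x ∈ U) → (∀ x ∈ U', g.1 *ᵥ x ∈ U') → g ∈ M

namespace LagPair

variable {U U' : Submodule F (ι → F)}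

theorem symm (p : LagPair f M U U') : LagPair f M U' U :=
  ⟨p.right, p.left, fun x => by
    obtain ⟨a, ha, b, hb, h⟩ := p.sup x
    exact ⟨b, hb, a, ha, by rw [add_comm, h]⟩, p.three_le', p.three_le,
    fun g hg h1 h2 => p.mem g hg h2 h1⟩

theorem ei (h : Alt f) (p : LagPair f M U U') {u u' : ι → F} (hu : u ∈ U) (hu' : u' ∈ U')
    (h0 : f u' u = 0) : Ei M f u u' 0 :=
  Ei.of_forall h h0 fun g hg hg' => p.mem g hg (fun x hx => by
    rw [hg', p.left x hx u hu, zero_smul, add_zero]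
    exact U.add_mem hx (U.smul_mem _ hu)) fun x hx => by
    rw [hg', p.right x hx u' hu', zero_mul, add_zero, zero_smul, add_zero]
    exact U'.add_mem hx (U'.smul_mem _ hu')

theorem exists_dual (h : Alt f) (p : LagPair f M U U') {a' u' : ι → F} (ha : a' ∈ U')
    (hu : u' ∈ U') (hm : a' ∉ Submodule.span F {u'}) : ∃ u ∈ U, f u' u = 0 ∧ f a' u = 1 := by
  obtain ⟨y, hy, hy'⟩ := exists_form_of_notMem h.toSForm hm 1
  obtain ⟨b, hb, b', hb', rfl⟩ := p.sup y
  have := hy u' (Submodule.mem_span_singleton_self u')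
  rw [h.add_right, p.right _ hu _ hb', add_zero] at this
  rw [h.add_right, p.right _ ha _ hb', add_zero] at hy'
  exact ⟨b, hb, this, hy'⟩

theorem lr_of_ei (h : Alt f) (h2 : (2 : F) ≠ 0) (p : LagPair f M U U') {b u' : ι → F} (hb : b ∈ U)
    (hu : u' ∈ U') (hbu : f b u' = 0) {l : F} (hl : l ≠ 0)
    (he : ∀ d : F, Ei M f u' (d • (b + l • u')) 0) : Lr M f u' := fun c => by
  have h1 := ((he (c / (2 * l))).add_smul h (-(c / (2 * l) * l))).div h
    (p.symm.ei h hu (U.smul_mem (c / (2 * l)) hb) (by rw [h.smul_left, hbu, mul_zero]))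
  convert h1 using 1
  · module
  · simp only [h.smul_left, h.add_right, h.smul_right', h.alt, hbu]
    field_simp
    ring

theorem exists_lr_aux (h : Alt f) (h2 : (2 : F) ≠ 0) (hMi : M ≤ iso f) (p : LagPair f M U U')
    {a a' b b' u' : ι → F} (ha : a ∈ U) (ha' : a' ∈ U') (hb : b ∈ U) (hb' : b' ∈ U')
    (hb0 : b' ≠ 0) (he : ∀ d : F, Ei M f (a + a') (d • (b + b')) 0) (hu' : u' ∈ U')
    (hau : f a u' = 0) (hbu : f b u' = 0) (hm : a' ∉ Submodule.span F {u'}) : Lr M f u' := by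
  have key : ∀ u ∈ U, f u' u = 0 → ∀ c d : F, Ei M f u'
      ((c * f a' u) • d • (b + b') + (d * c * f b' u) • (a + a'))
      (2 * (c * f a' u) * (d * c * f b' u)) := fun u hu h0 c d => by
    obtain ⟨k, hk, hki, hk'⟩ := (p.ei h hu (U'.smul_mem c hu')
      (by rw [h.smul_left, h0, mul_zero])).exists_iso h
    refine Ei.of_shift h ?_ (he d) (by rw [h.add_left, hau, p.right _ ha' _ hu', add_zero])
      (by rw [h.smul_left, h.add_left, hbu, p.right _ hb' _ hu', add_zero, mul_zero])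
    convert (he d).conj hk hki using 1
    · simp only [hk', h.add_left, h.smul_right', hau, p.right _ ha' _ hu', p.left _ ha _ hu]
      module
    · simp only [hk', h.add_left, h.smul_left, h.smul_right', hbu, p.right _ hb' _ hu',
        p.left _ hb _ hu]
      module
  by_cases hm' : b' ∈ Submodule.span F {u'}
  · obtain ⟨l, rfl⟩ := Submodule.mem_span_singleton.1 hm'
    obtain ⟨u, hu, h0, h1⟩ := p.exists_dual h ha' hu' hm
    refine p.lr_of_ei h h2 hb hu' hbu (l := l) (fun h0 => hb0 (by simp [h0])) fun d => ?_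
    simpa [h1, h.smul_left, h0] using key u hu h0 1 d
  · obtain ⟨u₁, hu₁, h3, h4⟩ := p.exists_dual h ha' hu' hm
    obtain ⟨u₂, hu₂, h5, h6⟩ := p.exists_dual h hb' hu' hm'
    obtain ⟨u, ⟨hu, h0⟩, h7, h8⟩ := exists_ne_ne h (W := U ⊓ dotKer (dv (RingHom.id F) f u'))
      (x := a') (y := b')
      ⟨u₁, ⟨hu₁, by simpa [dv_dot h.toSForm] using h.map_eq_zero.1 h3⟩,
        by rw [Ne, h.map_eq_zero, h4]; exact one_ne_zero⟩
      ⟨u₂, ⟨hu₂, by simpa [dv_dot h.toSForm] using h.map_eq_zero.1 h5⟩,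
        by rw [Ne, h.map_eq_zero, h6]; exact one_ne_zero⟩
    simp only [SetLike.mem_coe, mem_dotKer, dv_dot h.toSForm] at h0
    rw [h.map_eq_zero] at h0
    rw [Ne, h.map_eq_zero] at h7 h8
    intro c
    have h4 : (4 : F) ≠ 0 := by
      rw [show (4 : F) = 2 * 2 by norm_num]
      exact mul_ne_zero h2 h2
    have := (key u hu h0 1 (c / (4 * f a' u * f b' u))).mul h
      (key u hu h0 (-1) (c / (4 * f a' u * f b' u)))
    convert this using 1
    · module
    · rw [show ∀ x y : ι → F, (-1 * f a' u) • x + (c / (4 * f a' u * f b' u) * -1 * f b' u) • y =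
        -((1 * f a' u) • x + (c / (4 * f a' u * f b' u) * 1 * f b' u) • y) from
        fun x y => by module, h.neg_left, h.alt]
      field_simp
      ring

theorem exists_lr (h : Alt f) (h2 : (2 : F) ≠ 0) (hMi : M ≤ iso f) (p : LagPair f M U U')
    {v w : ι → F} (hv : v ∉ U) (hw : w ∉ U) (he : ∀ d : F, Ei M f v (d • w) 0) :
    ∃ u' ∈ U', u' ≠ 0 ∧ Lr M f u' := by
  obtain ⟨a, ha, a', ha', rfl⟩ := p.sup v
  obtain ⟨b, hb, b', hb', rfl⟩ := p.sup w
  have ha0 : a' ≠ 0 := fun h0 => hv (by simpa [h0] using ha)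
  have hb0 : b' ≠ 0 := fun h0 => hw (by simpa [h0] using hb)
  have hvw : f (b + b') (a + a') = 0 := by simpa using (he 1).1
  by_contra! hc
  have h1 : ∀ u' ∈ U', u' ≠ 0 → f a u' = 0 → f b u' = 0 →
      a' ∈ Submodule.span F {u'} ∧ b' ∈ Submodule.span F {u'} := fun u' hu' hu0 hau hbu => by
    by_contra hn
    rcases not_and_or.1 hn with hn | hn
    · exact hc u' hu' hu0 (p.exists_lr_aux h h2 hMi ha ha' hb hb' hb0 he hu' hau hbu hn)
    · exact hc u' hu' hu0 (p.exists_lr_aux h h2 hMi hb hb' ha ha' ha0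
        (fun d => by simpa using ((he d).symm h).of_smul h (h.map_eq_zero.1 hvw))
        hu' hbu hau hn)
  have h3 := p.three_le'
  have h4 := finrank_le_inf_dotKer U' (dv (RingHom.id F) f b)
  by_cases hab : a ∈ Submodule.span F {b}
  · obtain ⟨s, rfl⟩ := Submodule.mem_span_singleton.1 hab
    have h5 := finrank_span_singleton_le (F := F) a'
    obtain ⟨u', ⟨hu', h6⟩, h7⟩ := exists_mem_notMem_of_finrank_lt
      (W := U' ⊓ dotKer (dv (RingHom.id F) f b)) (U := Submodule.span F {a'}) (by omega)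
    simp only [SetLike.mem_coe, mem_dotKer, dv_dot h.toSForm] at h6
    rw [h.map_eq_zero] at h6
    obtain ⟨r, hr⟩ := Submodule.mem_span_singleton.1 (h1 u' hu'
      (fun h0 => h7 (h0 ▸ Submodule.zero_mem _)) (by rw [h.smul_left, h6, mul_zero]) h6).1
    have hr0 : r ≠ 0 := fun h0 => ha0 (by simp [← hr, h0])
    exact h7 (Submodule.mem_span_singleton.2 ⟨r⁻¹, by rw [← hr, inv_smul_smul₀ hr0]⟩)
  have h5 := finrank_le_inf_dotKer (U' ⊓ dotKer (dv (RingHom.id F) f b)) (dv (RingHom.id F) f a)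
  obtain ⟨u', ⟨⟨hu', h6⟩, h7⟩, hu0⟩ := (Submodule.ne_bot_iff
    (U' ⊓ dotKer (dv (RingHom.id F) f b) ⊓ dotKer (dv (RingHom.id F) f a))).1 fun h0 => by
      rw [h0, finrank_bot] at h5
      omega
  simp only [SetLike.mem_coe, mem_dotKer, dv_dot h.toSForm] at h6 h7
  rw [h.map_eq_zero] at h6 h7
  obtain ⟨h8, h9⟩ := h1 u' hu' hu0 h7 h6
  obtain ⟨κ, rfl⟩ := Submodule.mem_span_singleton.1 h8
  obtain ⟨l, rfl⟩ := Submodule.mem_span_singleton.1 h9
  have hκ : κ ≠ 0 := fun h0 => ha0 (by simp [h0])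
  obtain ⟨e, he', hbe, hae⟩ := p.symm.exists_dual h ha hb hab
  obtain ⟨k, hk, hk'⟩ := h.exists_iso_of_linear (LinearMap.id -
    (2 : F) • (h.bilin.flip e).smulRight a + (2 : F) • (h.bilin.flip a).smulRight e) fun x y => by
      simp [h.add_left, h.add_right, h.sub_left, h.sub_right, h.smul_left, h.smul_right', h.alt,
        hae, h.skew e a, h.skew a y, h.skew e y]
      ring
  have hk'' : ∀ x, k.1 *ᵥ x = x - (2 * f x e) • a + (2 * f x a) • e := fun x => by
    simp [hk', mul_smul]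
  have hkM : k ∈ M := p.mem k hk (fun x hx => by
    rw [hk'', p.left x hx a ha, mul_zero, zero_smul, add_zero]
    exact U.sub_mem hx (U.smul_mem _ ha)) fun x hx => by
    rw [hk'', p.right x hx e he', mul_zero, zero_smul, sub_zero]
    exact U'.add_mem hx (U'.smul_mem _ he')
  refine hc u' hu' hu0 (p.lr_of_ei h h2 hb hu' h6 (l := l) (fun h0 => hb0 (by simp [h0]))
    fun d => ?_)
  have e1 := (he (d / (2 * κ))).conj hkM hk
  have e2 : k.1 *ᵥ (a + κ • u') = -a + κ • u' := by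
    simp only [hk'', h.add_left, h.smul_left, hae, p.right _ hu' _ he', h.alt,
      h.map_eq_zero.1 h7]
    module
  have e3 : k.1 *ᵥ (b + l • u') = b + l • u' := by
    simp only [hk'', h.add_left, h.smul_left, hbe, p.right _ hu' _ he', p.left _ hb _ ha,
      h.map_eq_zero.1 h7]
    module
  rw [mulVec_smul, e2, e3] at e1
  have e4 := ((he (d / (2 * κ))).symm h).mul h (e1.symm h)
  rw [show a + κ • u' + (-a + κ • u') = (2 * κ) • u' by module, show
    0 + 0 + f (-a + κ • u') (a + κ • u') = 0 by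
      simp [h.add_left, h.add_right, h.smul_left, h.smul_right', h.neg_left, h.alt, h7,
        h.map_eq_zero.1 h7]] at e4
  have e5 := (e4.symm h).of_smul h (by
    simp [h.add_left, h.smul_left, h.alt, h6])
  rwa [smul_smul, mul_div_cancel₀ _ (mul_ne_zero h2 hκ), mul_zero] at e5

theorem lr_of_lr (h : Alt f) (p : LagPair f M U U') {u' y : ι → F} (hu : u' ∈ U') (h0 : u' ≠ 0)
    (hL : Lr M f u') (hy : y ∈ U') : Lr M f y := by
  by_cases hm : y ∈ Submodule.span F {u'}
  · obtain ⟨c, rfl⟩ := Submodule.mem_span_singleton.1 hm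
    exact hL.smul h c
  obtain ⟨u, hu', h1, h2⟩ := p.exists_dual h hu (U'.sub_mem hy hu) fun hm' => by
    obtain ⟨c, hc⟩ := Submodule.mem_span_singleton.1 hm'
    have hc0 : c ≠ 0 := fun h1 => h0 (by rw [← hc, h1, zero_smul])
    refine hm (Submodule.mem_span_singleton.2 ⟨1 + c⁻¹, ?_⟩)
    rw [add_smul, one_smul]
    nth_rewrite 2 [← hc]
    rw [inv_smul_smul₀ hc0, add_sub_cancel]
  obtain ⟨k, hk, hki, hk'⟩ := (p.ei h hu' (U'.sub_mem hy hu) h1).exists_iso h
  simpa [hk', h2, p.right _ hu _ (U'.sub_mem hy hu)] using hL.conj hk hki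

theorem exists_swap (h : Alt f) (p : LagPair f M U U') (hd : finrank F U = finrank F U') :
    ∃ g ∈ iso f, (∀ x ∈ U, g.1 *ᵥ x ∈ U') ∧ ∀ x ∈ U', g.1 *ᵥ x ∈ U := by
  let b := Module.finBasis F U
  let e : Fin (finrank F U) → ι → F := fun i => b i
  have he : LinearIndependent F e := b.linearIndependent.map' U.subtype U.ker_subtype
  have heU : ∀ i, e i ∈ U := fun i => (b i).2
  have hsp : U = Submodule.span F (Set.range e) := by
    rw [show e = U.subtype ∘ b from rfl, Set.range_comp, ← Submodule.map_span, b.span_eq,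
      Submodule.map_subtype_top]
  have : ∀ j, ∃ y ∈ U', ∀ i, f (e i) y = if i = j then 1 else 0 := fun j => by
    obtain ⟨φ, hφ⟩ := exists_dot_eq_of_linearIndependent he fun i => if i = j then 1 else 0
    obtain ⟨y, hy⟩ := exists_form_eq h.toSForm φ
    obtain ⟨a, ha, a', ha', rfl⟩ := p.sup y
    exact ⟨a', ha', fun i => by rw [← hφ, ← hy, h.add_right, p.left _ (heU i) _ ha, zero_add]⟩
  choose e' he'U he'' using this
  have he' : ∀ i j, f (e i) (e' j) = if i = j then 1 else 0 := fun i j => he'' j i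
  have li : ∀ x y : Fin (finrank F U) → ι → F, (∀ i j, f (x i) (y j) = if i = j then 1 else 0) →
      (∀ i j, f (x i) (x j) = 0) → (∀ i j, f (y i) (y j) = 0) →
      LinearIndependent F (Sum.elim x y) := fun x y h1 h2 h3 =>
    (linearIndependent_symplectic_family h.isAlt x y (fun i : Empty => i.elim) h1 h2 h3
      (fun i => i.elim) (fun i => i.elim) linearIndependent_empty_type).comp Sum.inl
        Sum.inl_injective
  have h1 : ∀ i j, f (e' i) (-e j) = if i = j then 1 else 0 := fun i j => by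
    rw [h.neg_right, ← h.skew, he']
    simp [eq_comm]
  have h2 : ∀ i j, f (e i) (e j) = 0 := fun i j => p.left _ (heU i) _ (heU j)
  have h3 : ∀ i j, f (e' i) (e' j) = 0 := fun i j => p.right _ (he'U i) _ (he'U j)
  have h4 : ∀ i j, f (-e i) (-e j) = 0 := fun i j => by simp [h.neg_left, h.neg_right, h2]
  obtain ⟨g, hg, hg'⟩ := h.exists_iso_of_family (Sum.elim e e') (Sum.elim e' fun i => -e i)
    (li _ _ he' h2 h3) (li _ _ h1 h3 h4) (by
      rintro (i | i) (j | j)
      · exact (h2 i j).trans (h3 i j).symm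
      · exact (he' i j).trans (h1 i j).symm
      · simp only [Sum.elim_inl, Sum.elim_inr]
        rw [h.skew, he', h.skew (-e i), h1]
      · exact (h3 i j).trans (h4 i j).symm)
  have key : ∀ k : GL ι F, (∀ i, k.1 *ᵥ e i ∈ U') → ∀ x ∈ U, k.1 *ᵥ x ∈ U' := fun k hk x hx => by
    rw [hsp] at hx
    refine (Submodule.span_le (p := U'.comap (toLin' k.1))).2 ?_ hx
    rintro _ ⟨i, rfl⟩
    exact hk i
  refine ⟨g, hg, key g fun i => (hg' (Sum.inl i)).symm ▸ he'U i, fun x hx => ?_⟩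
  rw [← map_eq_of_mulVec_mem g⁻¹ (key g⁻¹ fun i => ?_) hd.ge] at hx
  · obtain ⟨y, hy, rfl⟩ := hx
    rwa [toLin'_apply, GL_mulVec_inv_mulVec]
  · have h5 : g.1 *ᵥ e' i = -e i := hg' (Sum.inr i)
    rw [← neg_neg (e i), ← h5, mulVec_neg, GL_inv_mulVec_mulVec]
    exact U'.neg_mem (he'U i)

theorem exists_perp (h : Alt f) (p : LagPair f M U U') {A A' : Submodule F (ι → F)} (hA : A < U)
    (hA' : A' < U') : ∃ v ∈ U, ∃ w ∈ U', v ∉ A ∧ w ∉ A' ∧ f w v = 0 := by
  obtain ⟨w, hw, hwA⟩ := SetLike.exists_of_lt hA'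
  obtain ⟨v, hv, hvA⟩ := SetLike.exists_of_lt hA
  by_contra! hc
  -- for `x ∈ U \ A`, the hyperplane `U' ∩ x ^ ⊥` lies in `A'`
  have h1 : ∀ x ∈ U, x ∉ A → x ∈ Submodule.span F {v} := fun x hx hxA => by
    by_contra hm
    obtain ⟨y, hy, h2, h3⟩ := p.symm.exists_dual h hx hv hm
    have h4 : y ∈ A' := by
      by_contra h4
      exact hc v hv y hy hvA h4 (h.map_eq_zero.1 h2)
    refine hc x hx (w + f w x • y) (U'.add_mem hw (U'.smul_mem _ hy)) hxA
      (fun h5 => hwA (by simpa using A'.sub_mem h5 (A'.smul_mem (f w x) h4))) ?_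
    rw [h.add_left, h.smul_left, h.skew y, h3]
    ring
  have h2 := le_of_diff_subset (F := F) (X := U.toAddSubgroup) (U := A.toAddSubgroup)
    (W := (Submodule.span F {v}).toAddSubgroup) (fun h0 => hvA (h0 hv)) h1
  have h3 : finrank F U ≤ finrank F (Submodule.span F {v}) := Submodule.finrank_mono h2
  have h4 := finrank_span_singleton_le (F := F) v
  have h5 := p.three_le
  omega

theorem iso_le [Finite F] (h : Alt f) (h2 : (2 : F) ≠ 0) (hMi : M ≤ iso f) (p : LagPair f M U U')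
    {s : GL ι F} (hs : s ∈ M) (hs' : ∀ x ∈ U', s.1 *ᵥ x ∈ U) (hd : finrank F U ≤ finrank F U')
    {v w : ι → F} (hv : v ∉ U) (hw : w ∉ U) (he : ∀ d : F, Ei M f v (d • w) 0) : iso f ≤ M := by
  obtain ⟨u', hu', hu0, hL⟩ := p.exists_lr h h2 hMi hv hw he
  have h1 : ∀ y ∈ U', Lr M f y := fun y hy => p.lr_of_lr h hu' hu0 hL hy
  have h3 : ∀ y ∈ U, Lr M f y := fun y hy => by
    rw [← map_eq_of_mulVec_mem s hs' hd] at hy
    obtain ⟨x, hx, rfl⟩ := hy
    exact (h1 x hx).conj hs (hMi hs)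
  obtain ⟨u, hu, -, h4⟩ := p.exists_dual h hu' U'.zero_mem (by simpa using hu0)
  have h5 : f u' u ≠ 0 := by rw [h4]; exact one_ne_zero
  obtain ⟨X, hX, hXL, hX'⟩ := exists_max_lr h
    (big_span_pair ⟨-1, by simp, fun h0 => h2 (by linear_combination -h0)⟩ h5)
    (hL.of_mem_span_pair h (h3 u hu) h5)
  refine h.iso_le fun x => hXL x ?_
  obtain ⟨a, ha, a', ha', rfl⟩ := p.sup x
  refine X.add_mem (((le_or_le_perp h fun x hx => hX' x (h3 x hx)).resolve_right fun h6 => ?_) ha)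
    (((le_or_le_perp h fun x hx => hX' x (h1 x hx)).resolve_right fun h6 => ?_) ha')
  · exact h5 (h6 u hu u' (hX (Submodule.subset_span (by simp))))
  · exact h5 (h.map_eq_zero.1 (h6 u' hu' u (hX (Submodule.subset_span (by simp)))))

end LagPair

theorem isMaximalIn_lagPair [Finite F] (h : Alt f) (h2 : (2 : F) ≠ 0) {m : ℕ} (hm : 3 ≤ m)
    {D : Fin 2 → Submodule F (ι → F)} (hD : IsMDecomposition m D)
    (hts : ∀ i, IsTotallySingularFor f (D i)) :
    IsMaximalIn (iso f) (decompositionStabilizer D ⊓ iso f) := by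
  have hp : ∀ M, decompositionStabilizer D ⊓ iso f ≤ M → ∀ i j, i ≠ j → LagPair f M (D i) (D j) := by
    have h01 : ∀ M, decompositionStabilizer D ⊓ iso f ≤ M → LagPair f M (D 0) (D 1) := fun M hM =>
      ⟨hts 0, hts 1, fun x => Submodule.mem_sup.1 (by
        refine (hD.iSup_eq_top ▸ iSup_le ?_ : ⊤ ≤ D 0 ⊔ D 1) trivial
        exact Fin.forall_fin_two.2 ⟨le_sup_left, le_sup_right⟩), (hD.finrank_eq 0).symm ▸ hm,
        (hD.finrank_eq 1).symm ▸ hm, fun g hg h0 h1 =>
          hM ⟨mem_decompositionStabilizer_of_le hD (Fin.forall_fin_two.2 ⟨⟨0, h0⟩, 1, h1⟩), hg⟩⟩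
    intro M hM i j hij
    fin_cases i <;> fin_cases j
    exacts [absurd rfl hij, h01 M hM, (h01 M hM).symm, absurd rfl hij]
  refine isMaximalIn_inf (fun hle => ?_) fun M hM hMi g hg hgD => ?_
  · have p := hp _ le_rfl 0 1 zero_ne_one
    obtain ⟨u', hu', hu0⟩ := (Submodule.ne_bot_iff _).1 (ne_bot_of_decomp hD 1)
    obtain ⟨u, hu, -, h4⟩ := p.exists_dual h hu' (D 1).zero_mem (by simpa using hu0)
    obtain ⟨g, hg, hg'⟩ := h.exists_st u 1
    obtain ⟨j, hj⟩ := exists_mulVec_mem_of_mem_decompositionStabilizer (hle hg) 1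
    have h5 := hj u' hu'
    rw [hg', h4, mul_one, one_smul] at h5
    fin_cases j
    · simpa [h.add_left, h.alt, h4] using hts 0 _ h5 u hu
    · simpa [h.add_right, h.alt, h4] using hts 1 u' hu' _ h5
  obtain ⟨i, hi⟩ : ∃ i, ∀ j, ∃ x ∈ D j, g.1 *ᵥ x ∉ D i := by
    by_contra! hc
    refine hgD ((Subgroup.inv_mem_iff _).1 (mem_decompositionStabilizer_of_le hD fun i => ?_))
    obtain ⟨j, hj⟩ := hc i
    refine ⟨j, fun x hx => ?_⟩
    rw [← map_eq_of_mulVec_mem g hj (by rw [hD.finrank_eq, hD.finrank_eq])] at hx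
    obtain ⟨y, hy, rfl⟩ := hx
    rwa [toLin'_apply, GL_inv_mulVec_mulVec]
  obtain ⟨j, hij⟩ := exists_ne i
  have p := hp M hM i j hij.symm
  obtain ⟨s, hs, hs1, hs2⟩ := p.exists_swap h (by rw [hD.finrank_eq, hD.finrank_eq])
  have hlt : ∀ l, D l ⊓ (D i).comap (toLin' g.1) < D l := fun l =>
    lt_of_le_of_ne inf_le_left fun h0 => by
      obtain ⟨x, hx, hx'⟩ := hi l
      rw [← h0] at hx
      exact hx' hx.2
  obtain ⟨v, hv, w, hw, hv', hw', hvw⟩ := p.exists_perp h (hlt i) (hlt j)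
  refine p.iso_le h h2 hMi (hM ⟨mem_decompositionStabilizer_of_le hD fun l => ?_, hs⟩) hs2
    (by rw [hD.finrank_eq, hD.finrank_eq]) (v := g.1 *ᵥ v) (w := g.1 *ᵥ w)
    (fun h0 => hv' ⟨hv, h0⟩) (fun h0 => hw' ⟨hw, h0⟩) fun d => ?_
  · by_cases hl : l = i
    · exact ⟨j, hl ▸ hs1⟩
    · obtain rfl : l = j := by omega
      exact ⟨i, hs2⟩
  · rw [← mulVec_smul]
    exact (p.ei h hv ((D j).smul_mem d hw) (by rw [h.smul_left, hvw, mul_zero])).conj hg (hMi hg)

end Cfsg.Lib.Symp
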