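import Cfsg.Agent.Lib.OMax.FrameGet
import Cfsg.Agent.Lib.OMax.Two
import Cfsg.Agent.Lib.Orth.Klein
import Cfsg.Agent.Lib.C6.Two4
import Cfsg.Agent.Lib.Symp.MaxUnit
import Cfsg.Agent.Lib.Symp.MaxPair

/-!
# Maximal subgroups of `Sp₄(q)`, `q` odd, through `Ω₅(q)`
-/

set_option autoImplicit false

namespace Cfsg.Lib.Symp

open QuadraticMap Module Matrix Cfsg.Lib.Orth Cfsg.Lib.OMax Cfsg.Geo
open scoped MatrixGroups

section Cover

variable {F V ι G₀ : Type*} [Field F] [AddCommGroup V] [Module F V] [FiniteDimensional F V]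
  {Q : QuadraticForm F V} [Fintype ι] [DecidableEq ι] [Group G₀]

/-- Normalisers of symplectic-type `2`-groups in a double cover of `Ω_n(p)`. -/
theorem isMaximalIn_c6 [Finite F] (hQ : ND Q) (hp : PrimeF F) {n : ℕ} (hn : finrank F V = n)
    (h4 : 4 ≤ n)
    (hmax : ∀ (Q' : QuadraticForm F V) (e : Fin n → V), Fr Q' e → MaxC (mon Q' e))
    (j : G₀ →* GL ι F) (hj : Function.Injective j) (φ : G₀ →* O Q)
    (hφ : φ.range = commutator (O Q)) (hk : ∀ g, φ g = 1 ↔ j g = 1 ∨ j g = -1)
    {R : Subgroup (GL ι F)} (h : C6.St R) (hR : R ≤ j.range) (h1 : -1 ∈ R)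
    (hc : Nat.card R = 2 ^ n) :
    IsMaximalIn j.range (Subgroup.normalizer (R : Set (GL ι F)) ⊓ j.range) := by
  obtain ⟨z, hz⟩ := hR h1
  have h2 : Nat.card (φ.ker.subgroupOf (R.comap j)) = 2 := by
    refine (Nat.card_eq_two_iff' 1).2 ⟨⟨⟨z, show j z ∈ R from hz ▸ h1⟩, (hk z).2 (.inr hz)⟩,
      fun h0 => ?_, fun y hy => Subtype.ext (Subtype.ext (hj ?_))⟩
    · have : z = 1 := congrArg (fun x => x.1.1) h0
      rw [this, map_one] at hz
      exact h.ne_neg 1 (congrArg Units.val hz)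
    · rw [hz]
      exact ((hk _).1 y.2).resolve_left fun h0 =>
        hy (Subtype.ext (Subtype.ext (hj (h0.trans (map_one j).symm))))
  have h3 := (φ.ker.subgroupOf (R.comap j)).card_mul_index
  rw [h2, ← Subgroup.relIndex, Subgroup.relIndex_ker,
    ← Subgroup.card_map_of_injective (K := R.comap j) hj, Subgroup.map_comap_eq_self hR, hc] at h3
  obtain ⟨a1, a2⟩ := maxC_normalizer (E := (R.comap j).map φ) hQ h.two hp hn h4 (by
    rintro _ ⟨g, hg, rfl⟩
    rw [← map_mul, hk, map_mul]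
    exact (h.sq _ hg).imp Units.ext Units.ext) (by
    rintro _ ⟨g, -, rfl⟩; exact hφ.le ⟨g, rfl⟩) (by
    obtain ⟨m, rfl⟩ : ∃ m, n = m + 1 := ⟨n - 1, by omega⟩
    rw [pow_succ'] at h3
    simpa using h3) hmax
  exact a1.isMaximalIn_normalizer j φ hφ hR hj
    (fun g hg => by rcases (hk g).1 hg with h | h <;> simp [h, h1]) a2

theorem mem_comm_iff (h2 : (2 : F) ≠ 0) {t : O Q} (ht : t * t = 1) {x : V} :
    x ∈ O.comm t ↔ t.1 x = -x := by
  have h : ∀ v, t.1 (t.1 v) = v := fun v => by rw [← O.mul_apply, ht, O.one_apply]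
  refine O.mem_comm.trans ⟨?_, fun hx => ⟨(-2⁻¹ : F) • x, ?_⟩⟩
  · rintro ⟨y, rfl⟩
    rw [map_sub, h, neg_sub]
  · rw [map_smul, hx]
    match_scalars
    field_simp; norm_num

theorem nd_comm (hQ : ND Q) (h2 : (2 : F) ≠ 0) {t : O Q} (ht : t * t = 1) :
    ND (Q.restrict (O.comm t)) := by
  rw [nd_restrict_iff_disjoint, O.perp_comm hQ, Submodule.disjoint_def]
  intro x h1 h3
  rw [mem_comm_iff h2 ht, O.mem_fix.1 h3] at h1
  exact (smul_eq_zero.1 (show (2 : F) • x = 0 by rw [two_smul]; exact add_eq_zero_iff_eq_neg.2 h1)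
    ).resolve_left h2

theorem comm_of_mem_stab (hQ : ND Q) (h2 : (2 : F) ≠ 0) {t g : O Q} (ht : t * t = 1)
    (hg : g ∈ stab Q (O.comm t)) : g * t = t * g :=
  (isOSum_perp (nd_comm hQ h2 ht)).ext (fun x hx => by
    rw [O.mul_apply, O.mul_apply, (mem_comm_iff h2 ht).1 hx, map_neg,
      (mem_comm_iff h2 ht).1 (apply_mem_of_mem_stab hg hx)]) fun x hx => by
    have := apply_mem_of_mem_stab (stab_le_stab_perp _ hg) hx
    rw [O.perp_comm hQ, O.mem_fix] at hx this
    rw [O.mul_apply, O.mul_apply, hx, this]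

theorem finrank_fix (h2 : (2 : F) ≠ 0) {t : O Q} (ht : t * t = 1) :
    2 * (finrank F (O.fix t) : F) = finrank F V + LinearMap.trace F V (t.1 : V →ₗ[F] V) := by
  have h : ∀ v, t.1 (t.1 v) = v := fun v => by rw [← O.mul_apply, ht, O.one_apply]
  have := LinearMap.IsProj.trace (p := O.fix t) (f := (2⁻¹ : F) • (LinearMap.id + (t.1 : V →ₗ[F] V)))
    ⟨fun x => O.mem_fix.2 (by simp [h, add_comm]), fun x hx => by
      simp [O.mem_fix.1 hx, ← two_smul F, h2]⟩
  rw [← this, map_smul, map_add, LinearMap.trace_id, smul_eq_mul, mul_inv_cancel_left₀ h2]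

end Cover

variable {F : Type*} [Field F]

theorem klM_smul (c : F) (g : Matrix (Fin 4) (Fin 4) F) : klM (c • g) = c ^ 2 • klM g := by
  ext I J; simp only [klM_apply, Matrix.smul_apply, smul_eq_mul]; ring

theorem trace_klM (g : Matrix (Fin 4) (Fin 4) F) :
    2 * (klM g).trace = g.trace ^ 2 - (g * g).trace := by
  simp [trace, klM_apply, pl1, pl2, Fintype.sum_sum_type, Fin.sum_univ_succ, mul_apply]
  ring

/-- The vector of the exterior square fixed by `Sp₄`. -/
def w0 (F : Type*) [Field F] : Fin 3 ⊕ Fin 3 → F := Pi.single (.inl 1) 1 - Pi.single (.inr 1) 1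

theorem Q_w0 : qPlus 3 F (w0 F) = -1 := by simp [w0, qPlus_apply, Fin.sum_univ_succ]

/-- Change of index set. -/
def rx : Matrix (Fin 2 ⊕ Fin 2) (Fin 2 ⊕ Fin 2) F ≃ₐ[F] Matrix (Fin 4) (Fin 4) F :=
  reindexAlgEquiv F F finSumFinEquiv

theorem klM_rx_w0 {A : Matrix (Fin 2 ⊕ Fin 2) (Fin 2 ⊕ Fin 2) F} {c : F}
    (hA : A * J (Fin 2) F * Aᵀ = c • J (Fin 2) F) : klM (rx A) *ᵥ w0 F = c • w0 F := by
  have h := fun i j => congrFun (congrFun hA i) j
  have e0 : finSumFinEquiv.symm (0 : Fin 4) = (.inl 0 : Fin 2 ⊕ Fin 2) := rfl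
  have e1 : finSumFinEquiv.symm (1 : Fin 4) = (.inl 1 : Fin 2 ⊕ Fin 2) := rfl
  have e2 : finSumFinEquiv.symm (2 : Fin 4) = (.inr 0 : Fin 2 ⊕ Fin 2) := rfl
  have e3 : finSumFinEquiv.symm (3 : Fin 4) = (.inr 1 : Fin 2 ⊕ Fin 2) := rfl
  simp only [mul_apply, J, Fintype.sum_sum_type, Fin.sum_univ_two] at h
  rw [w0, mulVec_sub, mulVec_single_one, mulVec_single_one]
  ext (I | I) <;> fin_cases I <;> simp [klM_apply, pl1, pl2, rx, e0, e1, e2, e3]
  · have := h (.inl 0) (.inl 1); simp at this; linear_combination -this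
  · have := h (.inl 0) (.inr 0); simp at this; linear_combination -this
  · have := h (.inl 0) (.inr 1); simp at this; linear_combination -this
  · have := h (.inr 0) (.inr 1); simp at this; linear_combination -this
  · have := h (.inr 1) (.inl 1); simp at this; linear_combination -this
  · have := h (.inl 1) (.inr 0); simp at this; linear_combination -this

/-- The five-dimensional orthogonal module of `Sp₄`. -/
abbrev V5 (F : Type*) [Field F] := perp (qPlus 3 F) (F ∙ w0 F)

variable (F) in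
/-- `Sp₄` inside `GL₄`. -/
def spι : symplecticGroup (Fin 2) F →* GL (Fin 2 ⊕ Fin 2) F :=
  (symplecticGroup (Fin 2) F).subtype.toHomUnits

theorem coe_spι (g : symplecticGroup (Fin 2) F) : (spι F g).1 = g.1 := rfl

theorem spι_injective : Function.Injective (spι F) := fun _ _ h =>
  Subtype.ext (congrArg Units.val h)

theorem range_spι : (spι F).range = spGL 2 F := by
  ext g
  refine ⟨?_, fun h => ⟨⟨g.1, mem_iff_bil.2 fun u v => ?_⟩, Units.ext rfl⟩⟩
  · rintro ⟨g, rfl⟩ u v
    exact (sympForm_eq_bil 2 _ _).trans ((bil_mulVec g u v).trans (sympForm_eq_bil 2 _ _).symm)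
  · exact (sympForm_eq_bil 2 _ _).symm.trans ((h u v).trans (sympForm_eq_bil 2 _ _))

theorem osum5 (h2 : (2 : F) ≠ 0) : IsOSum (qPlus 3 F) (F ∙ w0 F) (V5 F) :=
  isOSum_singleton h2 (by simp [Q_w0])

theorem finrank_V5 : finrank F (V5 F) = 5 := by
  have := finrank_perp_singleton (nd_qPlus 3) (ne_zero_of_Q_ne_zero (Q := qPlus 3 F) (v := w0 F)
    (by simp [Q_w0]))
  simp at this
  omega

theorem exists_sp5 [Finite F] (h2 : (2 : F) ≠ 0) :
    ∃ φ : symplecticGroup (Fin 2) F →* O ((qPlus 3 F).restrict (V5 F)),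
      φ.range = commutator _ ∧ ∀ g, (osum5 h2).extR (φ g) = klein F (spSL F g) := by
  have S := osum5 h2
  have hQ := nd_qPlus (F := F) 3
  obtain ⟨φ, h⟩ := S.exists_hom hQ ((klein F).comp (spSL F)) fun x =>
    mem_fixer_span.2 (by simpa [w0] using klein_spSL x)
  have ho : Odd (finrank F (V5 F)) := by rw [finrank_V5]; decide
  have h3 : ∀ x, φ x ∈ commutator _ := fun x => (S.extR_mem_commutator hQ
    (not_exc_of_two_ne_zero h2) (not_exc_of_two_ne_zero h2)).1 (h x ▸ klein_mem _)
  obtain ⟨e⟩ := nonempty_O_equiv_of_odd (S.nd_right hQ) (nd_qOdd h2 2) ho (by simp [finrank_V5])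
  refine ⟨φ, ((preCover_klein.comp spSL_injective (z' := negOneSp _ F) (Subtype.ext (by
    ext i j; simp [spSL_apply, one_apply]))).of_comp S.extR h id fun x e =>
      absurd ((neg_mem_commutator_iff (S.nd_right hQ) h2).1 (e ▸ h3 x)).1
      (Nat.not_even_iff_odd.2 ho)).range_eq (S.nd_right hQ) (not_exc_of_two_ne_zero h2)
      (by simp [finrank_V5]) h3 ((Nat.card_congr e.toEquiv).trans ?_), h⟩
  rw [card_O_qOdd h2, card_sp, Fintype.card_fin, mul_assoc]

theorem isMaximalIn_c6_sp [Fintype F] (hp : (Fintype.card F).Prime)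
    {R : Subgroup (GL (Fin 2 ⊕ Fin 2) F)} (h : C6.St R) (hR : R ≤ spGL 2 F) (hc : Nat.card R = 32)
    (hZ : Nat.card (Subgroup.center R) = 2) :
    IsMaximalIn (spGL 2 F) (subgroupNormalizer R ⊓ spGL 2 F) := by
  obtain ⟨φ, h1, h3⟩ := exists_sp5 h.two
  obtain ⟨a, b, c, d, H⟩ := h.exists_b4 (by omega)
  rw [← range_spι] at hR ⊢
  refine isMaximalIn_c6 ((osum5 h.two).nd_right (nd_qPlus 3)) (primeF_of_card hp) finrank_V5
    (by omega) (fun Q' e S K a1 a2 => S.max_odd a1 (by simp) (by decide) a2) _ spι_injective φ h1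
    (fun g => ?_) h hR (h.neg_one_mem H) hc
  rw [← (osum5 h.two).extR_injective.eq_iff, h3, map_one]
  refine ⟨fun h4 => (preCover_klein.ker _ h4).imp (fun h5 => ?_) fun h5 => ?_, fun h4 => ?_⟩
  · rw [spSL_injective (h5.trans (map_one _).symm), map_one]
  · exact Units.ext (rx.injective ((congrArg Subtype.val h5).trans (by simp)))
  · refine O.ext fun v => ?_
    rw [klein_apply, show (spSL F g).1 = rx (spι F g).1 from rfl, O.one_apply]
    rcases h4 with h4 | h4 <;> rw [h4]
    · simp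
    · have := klM_smul (-1 : F) 1
      simp only [neg_smul, one_smul, even_two, Even.neg_pow, one_pow, map_one] at this
      simp [this]

/-- The stabiliser of `± J` for a skew-adjoint `J` with scalar square. -/
theorem isMaximalIn_skew [Finite F] (h2 : (2 : F) ≠ 0) (hF : 5 ≤ Nat.card F)
    {A : Matrix (Fin 2 ⊕ Fin 2) (Fin 2 ⊕ Fin 2) F}
    (h1 : ∀ x y, sympForm 2 F (A *ᵥ x) y = -sympForm 2 F x (A *ᵥ y)) {s : F} (hs : s ≠ 0)
    (h3 : A * A = s • 1) {H : Subgroup (GL (Fin 2 ⊕ Fin 2) F)}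
    (hH : ∀ g ∈ spGL 2 F, g.1 * A = A * g.1 ∨ g.1 * A = -(A * g.1) → g ∈ H)
    (hH' : ¬ spGL 2 F ≤ H) : IsMaximalIn (spGL 2 F) (H ⊓ spGL 2 F) := by
  obtain ⟨φ, a1, a2⟩ := exists_sp5 h2
  have S := osum5 h2
  have hQ := nd_qPlus (F := F) 3
  have b1 : Aᵀ * J (Fin 2) F = -(J (Fin 2) F * A) := by
    ext i j
    have := h1 (Pi.single i 1) (Pi.single j 1)
    rw [sympForm, sympForm, mulVec_mulVec, ← vecMul_transpose, ← dotProduct_mulVec,
      mulVec_mulVec] at this
    simpa using this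
  have b2 : A = J (Fin 2) F * Aᵀ * J (Fin 2) F := by
    rw [Matrix.mul_assoc, b1, Matrix.mul_neg, ← Matrix.mul_assoc, J_squared]; simp
  have b3 : A.trace = 0 := by
    have := congrArg trace b2
    rw [trace_mul_cycle, J_squared, Matrix.neg_mul, Matrix.one_mul, trace_neg,
      trace_transpose] at this
    exact mul_left_cancel₀ h2 (by linear_combination this)
  have b4 : klM (rx A) *ᵥ w0 F = (-s) • w0 F := klM_rx_w0 (by
    have : J (Fin 2) F * Aᵀ = -(A * J (Fin 2) F) := by
      conv_rhs => rw [b2, Matrix.mul_assoc, J_squared]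
      simp
    rw [Matrix.mul_assoc, this, Matrix.mul_neg, ← Matrix.mul_assoc, h3]; simp)
  have b5 : (rx A).det = s ^ 2 := by
    have := qPlus_klM (rx A) (w0 F)
    rw [b4, Q_smul, Q_w0] at this
    linear_combination this
  have b6 : rx A * rx A = s • 1 := by rw [← map_mul, h3, map_smul, map_one]
  have b7 : klM (rx A) * klM (rx A) = s ^ 2 • 1 := by
    rw [← map_mul, b6, klM_smul, map_one]
  let τ : O (qPlus 3 F) := O.ofLinear hQ (s⁻¹ • toLin' (klM (rx A))) fun v => by
    simp only [LinearMap.smul_apply, toLin'_apply, Q_smul, qPlus_klM, b5]; field_simp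
  have c1 : ∀ v, τ.1 v = s⁻¹ • klM (rx A) *ᵥ v := fun v => rfl
  have c2 : τ * τ = 1 := O.ext fun v => by
    rw [O.mul_apply, c1, c1, mulVec_smul, mulVec_mulVec, b7, smul_mulVec, one_mulVec, O.one_apply]
    match_scalars; field_simp
  have c3 : τ.1 (w0 F) = -w0 F := by rw [c1, b4]; match_scalars; field_simp
  have c4 : τ ∈ stab _ (V5 F) := stab_le_stab_perp _ (mem_stab_iff_mapsTo.2 fun x hx => by
    obtain ⟨c, rfl⟩ := Submodule.mem_span_singleton.1 hx
    rw [map_smul, c3]
    exact Submodule.smul_mem _ _ (neg_mem (Submodule.mem_span_singleton_self _)))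
  set t := res _ _ ⟨τ, c4⟩ with ht
  have c5 : t * t = 1 := by rw [ht, ← map_mul, ← map_one (res _ _)]; exact congrArg _ (Subtype.ext c2)
  have key : ∀ g, φ g ∈ stab _ (O.comm t) → spι F g ∈ H := fun g hg => by
    have d1 := comm_of_mem_stab (S.nd_right hQ) h2 c5 hg
    have d2 : klein F (spSL F g) * τ = τ * klein F (spSL F g) := by
      rw [← a2]
      refine S.ext (fun x hx => ?_) fun x hx => ?_
      · obtain ⟨c, rfl⟩ := Submodule.mem_span_singleton.1 hx
        have := S.extR_left (φ g) (Submodule.mem_span_singleton_self (w0 F))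
        simp [O.mul_apply, c3, this]
      · have := congrArg (fun o : O _ => (o.1 ⟨x, hx⟩).1) d1
        rw [O.mul_apply, O.mul_apply, S.extR_right (φ g) ⟨x, hx⟩]
        exact (S.extR_right (φ g) (t.1 ⟨x, hx⟩)).trans this
    have d3 : ∀ v, klM (spSL F g).1 *ᵥ klM (rx A) *ᵥ v = klM (rx A) *ᵥ klM (spSL F g).1 *ᵥ v :=
      fun v => by
      have := congrArg (fun o : O _ => o.1 v) d2
      simp only [O.mul_apply, c1, klein_apply, mulVec_smul] at this
      exact smul_right_injective _ (inv_ne_zero hs) this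
    have d4 : (spSL F g).1 * (spSL F g⁻¹).1 = 1 :=
      congrArg Subtype.val (show spSL F g * spSL F g⁻¹ = 1 by rw [map_inv, mul_inv_cancel])
    obtain ⟨c, d5, d6⟩ := eq_smul_of_klM (ε := 1)
      (g := ⟨(spSL F g).1 * rx A * (spSL F g⁻¹).1 * (s⁻¹ • rx A), by
        simp only [det_mul, det_smul, b5, (spSL F g).2, (spSL F g⁻¹).2, Fintype.card_fin]
        field_simp⟩) fun v => by
      simp only [map_mul, ← mulVec_mulVec, d3]
      rw [mulVec_mulVec _ (klM (spSL F g).1), ← map_mul, d4, map_one, one_mulVec, klM_smul,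
        smul_mulVec, mulVec_smul, mulVec_mulVec, b7, smul_mulVec, one_mulVec]
      match_scalars; field_simp
    have d7 : (spSL F g).1 * rx A = c • (rx A * (spSL F g).1) := by
      have := congrArg (· * (rx A * (spSL F g).1)) d5
      simp only [Matrix.mul_assoc, smul_mul_assoc, Matrix.one_mul] at this
      rw [← Matrix.mul_assoc (rx A) (rx A), b6, smul_mul_assoc, smul_smul, inv_mul_cancel₀ hs,
        one_smul, Matrix.one_mul, mul_eq_one_comm.1 d4, Matrix.mul_one] at this
      exact this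
    rw [show (spSL F g).1 = rx g.1 from rfl, ← map_mul, ← map_mul, ← map_smul,
      rx.injective.eq_iff] at d7
    refine hH _ (range_spι.le ⟨g, rfl⟩) ((sq_eq_one_iff.1 d6).imp (fun h => ?_) fun h => ?_) <;>
      simpa [h, coe_spι] using d7
  have c6 : finrank F (O.fix t) = finrank F (O.fix τ) := by
    refine (LinearEquiv.finrank_eq ?_).trans (Submodule.comapSubtypeEquivOfLe
      (p := O.fix τ) (q := V5 F) fun x hx => mem_perp_singleton.2 ?_).finrank_eq
    · exact LinearEquiv.ofEq _ _ (Submodule.ext fun x => by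
        simp only [O.mem_fix, Submodule.mem_comap, Subtype.ext_iff]; rfl)
    · have := O.map_polar τ (w0 F) x
      rw [c3, O.mem_fix.1 hx, polar_neg_left] at this
      exact mul_left_cancel₀ h2 (by linear_combination -this)
  have c7 := finrank_fix h2 c2
  have c8 : LinearMap.trace F _ τ.1.toLinearMap = -2 := by
    have := trace_klM (rx A)
    rw [b6, show (rx A).trace = A.trace from
      Equiv.sum_comp finSumFinEquiv.symm fun i => A i i, b3] at this
    rw [show τ.1.toLinearMap = s⁻¹ • toLin' (klM (rx A)) from rfl, map_smul, trace_toLin'_eq,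
      smul_eq_mul]
    simp only [trace_smul, trace_one, Fintype.card_fin, smul_eq_mul] at this
    field_simp
    exact mul_left_cancel₀ h2 (by linear_combination this)
  have c9 := O.finrank_comm_add_finrank_fix t
  rw [← c6, c8] at c7
  rw [finrank_V5] at c9
  have c10 : finrank F (O.comm t) ≠ 0 := fun h => hH' (range_spι.ge.trans (by
    rintro _ ⟨g, rfl⟩
    exact key g (by simp [Submodule.finrank_eq_zero.1 h, mem_stab])))
  have c11 : finrank F (O.comm t) = 3 := by
    simp only [finrank_fintype_fun_eq_card, Fintype.card_sum, Fintype.card_fin] at c7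
    have d1 : (finrank F (O.fix t) : F) = 2 := mul_left_cancel₀ h2 (by
      rw [c7]; norm_num)
    generalize finrank F (O.fix t) = k at *
    have : k ≤ 4 := by omega
    interval_cases k
    · exact absurd (by linear_combination -d1) h2
    · exact absurd (by linear_combination -d1) (one_ne_zero (α := F))
    · omega
    · exact absurd (by linear_combination d1) (one_ne_zero (α := F))
    · exact absurd (by linear_combination d1) h2
  rw [← range_spι] at hH' ⊢
  exact MaxC.isMaximalIn (fun K => max_two_three (S.nd_right hQ) finrank_V5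
    (nd_comm (S.nd_right hQ) h2 c5) c11 hF h2) _ φ a1 key hH'

end Cfsg.Lib.Symp
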