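import Cfsg.Agent.Lib.Symp.MaxBase
import Cfsg.Agent.Lib.Linear.Decomp

/-!
# Maximal subgroups of symplectic groups: subspace stabilisers, orthogonal decompositions and
orthogonal groups
-/

namespace Cfsg.Lib.Symp

open Matrix Module Cfsg.Geo Cfsg.Lib.Asch Cfsg.Lib.Linear
open scoped MatrixGroups

variable {ι : Type} [Fintype ι] [DecidableEq ι] {F : Type*} [Field F]
  {f : (ι → F) → (ι → F) → F} {M : Subgroup (GL ι F)}

theorem Alt.exists_st (h : Alt f) (v : ι → F) (c : F) :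
    ∃ g ∈ iso f, ∀ x, g.1 *ᵥ x = x + (c * f x v) • v := by
  obtain ⟨-, g, hg, hg'⟩ := Ei.iso h (h.zero_left v) c
  exact ⟨g, hg, fun x => by simp [hg', h.zero_right]⟩

theorem isMaximalIn_singular (h : Alt f) {W : Submodule F (ι → F)} (h0 : W ≠ ⊥)
    (hW : IsTotallySingularFor f W) : IsMaximalIn (iso f) (subspaceStabilizer W ⊓ iso f) := by
  refine isMaximalIn_inf (fun hle => ?_) fun M hM hMi g hg hgW => ?_
  · obtain ⟨w, hw, hw0⟩ := (Submodule.ne_bot_iff W).1 h0
    obtain ⟨y, hy⟩ := exists_form_ne_zero h.toSForm hw0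
    obtain ⟨g, hg, hg'⟩ := h.exists_st y 1
    have h1 := (hle hg w).1 hw
    have h2 := hW _ h1 w hw
    change f (g.1 *ᵥ w) w = 0 at h2
    rw [hg', h.add_left, h.alt, h.smul_left, h.skew w y] at h2
    simp [hy] at h2
  · obtain ⟨w, hw, hgw⟩ : ∃ w ∈ W, g.1 *ᵥ w ∉ W := by
      by_contra! hc
      exact hgW (mem_subspaceStabilizer_of_le hc)
    obtain ⟨x, hx, hx'⟩ := exists_form_of_notMem h.toSForm hgw 1
    refine h.iso_le_of_full (w := g.1 *ᵥ w) (x := x) (fun z c hz => ?_)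
      (Lr.of_forall h fun c k hk hk' => hM ⟨mem_subspaceStabilizer_of_le fun y hy => ?_, hk⟩)
      (by rw [Ne, h.map_eq_zero, hx']; exact one_ne_zero)
    · have := (Ei.of_forall h (M := M) (u := w) (z := (g⁻¹).1 *ᵥ z) (c := c)
        (by rw [← hMi hg, GL_mulVec_inv_mulVec, hz]) fun k hk hk' =>
          hM ⟨mem_subspaceStabilizer_of_le fun y hy => ?_, hk⟩).conj hg (hMi hg)
      · rwa [GL_mulVec_inv_mulVec] at this
      · rw [hk', hW y hy w hw, zero_smul, add_zero]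
        exact W.add_mem hy (W.smul_mem _ hw)
    · rwa [hk', hx y hy, mul_zero, zero_smul, add_zero]

theorem Alt.two_le_finrank (h : Alt f) {W : Submodule F (ι → F)} (h0 : W ≠ ⊥)
    (hW : IsNondegenerateOn f W) : 2 ≤ finrank F W := by
  obtain ⟨w, hw, hw0⟩ := (Submodule.ne_bot_iff W).1 h0
  obtain ⟨x, hx, hxw⟩ := (hW w hw hw0).1
  have h1 := linearIndependent_pair_of_ne_zero h.isAlt hxw
  have h2 := finrank_span_eq_card h1
  rw [Fintype.card_fin] at h2
  exact h2.ge.trans <| Submodule.finrank_mono (Submodule.span_le.2 (by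
    rintro _ ⟨i, rfl⟩
    fin_cases i
    exacts [hx, hw]))

theorem isMaximalIn_nondeg [Finite F] (h : Alt f) {W : Submodule F (ι → F)} (h0 : W ≠ ⊥)
    (hW : IsNondegenerateOn f W) (hd : 2 * finrank F W < Fintype.card ι) :
    IsMaximalIn (iso f) (subspaceStabilizer W ⊓ iso f) := by
  have ho := h.osum_of_nondeg hW
  have h1 := ho.finrank_add
  have h2 := h.two_le_finrank h0 hW
  have hW' := (ho.symm h.toSForm).nondeg h.toSForm
  have hpp : ∀ x, (∀ w ∈ h.perp W, f w x = 0) → x ∈ W := fun x hx =>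
    mem_of_perp h.toSForm fun y hy => h.map_eq_zero.1 (hx y fun w hw => h.map_eq_zero.1 (hy w hw))
  refine isMaximalIn_inf (fun hle => ?_) fun M hM hMi g hg hgW => ?_
  · obtain ⟨w, hw, hw0⟩ := (Submodule.ne_bot_iff W).1 h0
    obtain ⟨x, hx, hxw⟩ := (hW w hw hw0).2
    obtain ⟨y, hy, hy0⟩ := (Submodule.ne_bot_iff (h.perp W)).1 fun h0 => by
      rw [h0, finrank_bot] at h1
      omega
    obtain ⟨z, hz, hzy⟩ := (hW' y hy hy0).2
    obtain ⟨g, hg, hg'⟩ := h.exists_st (x + y) 1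
    have h3 := ho.orth _ ((hle hg w).1 hw) z hz
    change f (g.1 *ᵥ w) z = 0 at h3
    rw [hg', h.add_left, h.smul_left, h.add_left, h.add_right, ho.orth w hw z hz, ho.orth x hx z hz,
      ho.orth w hw y hy] at h3
    simp [hxw, hzy] at h3
  have hL : ∀ x ∈ W, Lr M f x := fun x hx => Lr.of_forall h fun c k hk hk' =>
    hM ⟨mem_subspaceStabilizer_of_le fun y hy => by
      rw [hk']
      exact W.add_mem hy (W.smul_mem _ hx), hk⟩
  have hL' : ∀ x ∈ h.perp W, Lr M f x := fun x hx => Lr.of_forall h fun c k hk hk' =>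
    hM ⟨mem_subspaceStabilizer_of_le fun y hy => by
      rwa [hk', ho.orth y hy x hx, mul_zero, zero_smul, add_zero], hk⟩
  obtain ⟨X, hX, hXL, hX'⟩ := exists_max_lr h (h.big_of_nondeg hW' (Or.inr (by omega))) hL'
  rcases le_or_le_perp h (U := W) fun x hx => hX' x (hL x hx) with h3 | h3
  · exact h.iso_le fun v => hXL v ((ho.compl.sup_eq_top ▸ sup_le h3 hX : ⊤ ≤ X) trivial)
  exfalso
  rcases le_or_le_perp h (U := (h.perp W).map (toLin' g.1)) (X := X) (by
    rintro _ ⟨x, hx, rfl⟩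
    exact hX' _ ((hL' x hx).conj hg (hMi hg))) with h4 | h4
  · have h5 := map_eq_of_mulVec_mem g (W := h.perp W) (U := h.perp W)
      (fun x hx w hw => h3 w hw _ (h4 ⟨x, hx, rfl⟩)) le_rfl
    refine hgW (mem_subspaceStabilizer_of_le fun x hx => hpp _ fun w hw => ?_)
    rw [← h5] at hw
    obtain ⟨y, hy, rfl⟩ := hw
    exact (hMi hg y x).trans (hy x hx)
  · have := finrank_le_of_mulVec_mem g (W := h.perp W) (U := W)
      fun x hx => hpp _ fun w hw => h4 _ ⟨x, hx, rfl⟩ w (hX hw)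
    omega

section Decomp

variable {t k : ℕ} {D : Fin t → Submodule F (ι → F)}

theorem exists_perm_iso (h : Alt f) (hD : IsNondegenerateMDecomposition f k D)
    (π : Equiv.Perm (Fin t)) : ∃ g ∈ iso f, (∀ i, ∀ x ∈ D i, g.1 *ᵥ x ∈ D (π i)) ∧
      ∀ i, π i = i → ∀ x ∈ D i, g.1 *ᵥ x = x := by
  have hn : ∀ i, (h.bilin.restrict (D i)).Nondegenerate := fun i =>
    ⟨fun x hx => Subtype.ext (by
      by_contra h0
      obtain ⟨y, hy, h1⟩ := (hD.nondegenerate i x x.2 h0).2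
      exact h1 (hx ⟨y, hy⟩)), fun x hx => Subtype.ext (by
      by_contra h0
      obtain ⟨y, hy, h1⟩ := (hD.nondegenerate i x x.2 h0).1
      exact h1 (hx ⟨y, hy⟩))⟩
  choose e he using fun i => exists_isometry_of_finrank_eq (B := h.bilin.restrict (D i))
    (B' := h.bilin.restrict (D (π i))) (fun x => h.alt x) (hn i) (fun x => h.alt x) (hn _)
    (by rw [hD.decomp.finrank_eq, hD.decomp.finrank_eq])
  obtain ⟨A, hA⟩ := exists_linear_of_decomp hD.decomp.indep hD.decomp.iSup_eq_top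
    fun i => if π i = i then (D i).subtype else (D (π i)).subtype ∘ₗ (e i).toLinearMap
  have h1 : ∀ i, ∀ x ∈ D i, A x ∈ D (π i) := fun i x hx => by
    rw [hA i ⟨x, hx⟩]
    split_ifs with hi
    · rwa [hi]
    · exact (e i ⟨x, hx⟩).2
  obtain ⟨g, hg, hg'⟩ := h.exists_iso_of_linear A fun x y => by
    refine induction_of_iSup_eq_top hD.decomp.iSup_eq_top (P := fun x => f (A x) (A y) = f x y)
      (by simp [h.zero_left]) (fun i x hx => ?_) (fun x x' h1 h2 => by simp [h.add_left, h1, h2]) x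
    refine induction_of_iSup_eq_top hD.decomp.iSup_eq_top (P := fun y => f (A x) (A y) = f x y)
      (by simp [h.zero_right]) (fun j y hy => ?_)
      (fun x x' h1 h2 => by simp [h.add_right, h1, h2]) y
    by_cases hij : i = j
    · subst hij
      rw [hA i ⟨x, hx⟩, hA i ⟨y, hy⟩]
      split_ifs
      exacts [rfl, he i ⟨x, hx⟩ ⟨y, hy⟩]
    · rw [hD.orthogonal i j hij x hx y hy,
        hD.orthogonal _ _ (π.injective.ne hij) _ (h1 i x hx) _ (h1 j y hy)]
  exact ⟨g, hg, fun i x hx => hg' x ▸ h1 i x hx, fun i hi x hx => by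
    rw [hg', hA i ⟨x, hx⟩, if_pos hi]; rfl⟩

theorem eq_zero_of_perp_decomp (h : Alt f) (hD : iSup D = ⊤) {x : ι → F}
    (hx : ∀ j, ∀ w ∈ D j, f w x = 0) : x = 0 :=
  h.nondeg x (induction_of_iSup_eq_top hD (h.zero_left x) hx
    fun y z h1 h2 => by rw [h.add_left, h1, h2, add_zero])

theorem mem_of_perp_decomp (h : Alt f) (hD : IsNondegenerateMDecomposition f k D) {i : Fin t}
    {x : ι → F} (hx : ∀ j, j ≠ i → ∀ w ∈ D j, f w x = 0) : x ∈ D i := by
  obtain ⟨p, h1, h2, h3, h4⟩ := exists_proj_of_decomp hD.decomp.indep hD.decomp.iSup_eq_top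
  rw [← h4 x, Finset.sum_eq_single i (fun j _ hj => ?_) (by simp)]
  · exact h1 i x
  · by_contra h0
    obtain ⟨w, hw, h5⟩ := (hD.nondegenerate j _ (h1 j x) h0).1
    have h6 := hx j hj w hw
    rw [← h4 x, h.sum_right, Finset.sum_eq_single j
      (fun l _ hl => hD.orthogonal j l hl.symm w hw _ (h1 l x)) (by simp)] at h6
    exact h5 h6

theorem isMaximalIn_nondegDecomp [Finite F] (h : Alt f)
    (hD : IsNondegenerateMDecomposition f k D) (hk : (∃ a : F, a ≠ 0 ∧ a ≠ 1) ∨ k ≠ 2) :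
    IsMaximalIn (iso f) (decompositionStabilizer D ⊓ iso f) := by
  have h0 := ne_bot_of_decomp hD.decomp
  have hb : ∀ i, Big f (D i) := fun i => h.big_of_nondeg (hD.nondegenerate i)
    (hk.imp (fun ha => ⟨ha, h0 i⟩) fun hk => by
      have h1 := h.two_le_finrank (h0 i) (hD.nondegenerate i)
      have h2 := hD.decomp.finrank_eq i
      omega)
  refine isMaximalIn_inf (fun hle => ?_) fun M hM hMi g hg hgW => ?_
  · obtain ⟨i, j, hij⟩ := (Fin.nontrivial_iff_two_le.2 hD.decomp.two_le).exists_pair_ne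
    obtain ⟨w, hw, x, hx, hxw⟩ := (hb i).exists_ne
    obtain ⟨y, hy, z, hz, hzy⟩ := (hb j).exists_ne
    obtain ⟨g, hg, hg'⟩ := h.exists_st (w + y) 1
    obtain ⟨l, hl⟩ := exists_mulVec_mem_of_mem_decompositionStabilizer (hle hg) i
    have h1 := hl w hw
    rw [hg', h.add_right, h.alt, hD.orthogonal i j hij w hw y hy, add_zero, mul_zero, zero_smul,
      add_zero] at h1
    obtain rfl := eq_of_mem_decomp hD.decomp hw h1 fun h0 => hxw (by rw [h0, h.zero_right])
    have h3 := hD.orthogonal j i hij.symm z hz _ (hl x hx)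
    rw [hg', h.add_right, h.smul_right', h.add_right, h.add_right, hD.orthogonal j i hij.symm z hz x hx,
      hD.orthogonal j i hij.symm z hz w hw, hD.orthogonal i j hij x hx y hy] at h3
    simp [hxw, hzy] at h3
  have hL : ∀ i, ∀ x ∈ D i, Lr M f x := fun i x hx => Lr.of_forall h fun c k hk hk' =>
    hM ⟨mem_decompositionStabilizer_of_le hD.decomp fun j => ⟨j, fun y hy => by
      rw [hk']
      by_cases hij : j = i
      · exact (D j).add_mem hy ((D j).smul_mem _ (hij ▸ hx))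
      · rwa [hD.orthogonal j i hij y hy x hx, mul_zero, zero_smul, add_zero]⟩, hk⟩
  choose X hX hXL hX' using fun i => exists_max_lr h (hb i) (hL i)
  have hmap : ∀ k ∈ M, ∀ U : Submodule F (ι → F), (∀ x ∈ U, Lr M f x) → ∀ i,
      (∀ x ∈ U, k.1 *ᵥ x ∈ X i) ∨ ∀ x ∈ U, ∀ w ∈ X i, f w (k.1 *ᵥ x) = 0 := fun k hk U hU i =>
    (le_or_le_perp h (U := U.map (toLin' k.1)) (X := X i) (by
      rintro _ ⟨x, hx, rfl⟩
      exact hX' _ _ ((hU x hx).conj hk (hMi hk)))).imp (fun h1 x hx => h1 ⟨x, hx, rfl⟩)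
        fun h1 x hx => h1 _ ⟨x, hx, rfl⟩
  by_cases hc : ∃ i j, j ≠ i ∧ D j ≤ X i
  · obtain ⟨i, j, hji, hj⟩ := hc
    refine h.iso_le fun v => hXL i v ((hD.decomp.iSup_eq_top ▸ iSup_le fun l => ?_ : ⊤ ≤ X i) trivial)
    by_cases hl : l = i
    · exact hl ▸ hX i
    obtain ⟨s, hs, hs1, hs2⟩ := exists_perm_iso h hD (Equiv.swap j l)
    have hsM : s ∈ M := hM ⟨mem_decompositionStabilizer_of_le hD.decomp fun a => ⟨_, hs1 a⟩, hs⟩
    rcases hmap s hsM _ (hXL i) i with h1 | h1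
    · intro y hy
      have h2 := map_eq_of_mulVec_mem s (U := D l) (by simpa using hs1 j)
        (by rw [hD.decomp.finrank_eq, hD.decomp.finrank_eq])
      rw [← h2] at hy
      obtain ⟨x, hx, rfl⟩ := hy
      exact h1 x (hj hx)
    · obtain ⟨w, hw, x, hx, hxw⟩ := (hb i).exists_ne
      have h2 := h1 w (hX i hw) x (hX i hx)
      rw [hs2 i (Equiv.swap_apply_of_ne_of_ne hji.symm (Ne.symm hl)) w hw] at h2
      exact absurd h2 hxw
  push Not at hc
  refine absurd (mem_decompositionStabilizer_of_le hD.decomp fun i => ?_) hgW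
  by_contra! hne
  obtain ⟨w, hw, hw0⟩ := (Submodule.ne_bot_iff _).1 (h0 i)
  refine GL_mulVec_ne_zero g hw0 (eq_zero_of_perp_decomp h hD.decomp.iSup_eq_top fun j y hy => ?_)
  rcases hmap g hg _ (hL i) j with h1 | h1
  · obtain ⟨x, hx, hx'⟩ := hne j
    refine absurd (mem_of_perp_decomp h hD fun l hl z hz => ?_) hx'
    rcases le_or_le_perp h (U := D l) fun x hx => hX' j x (hL l x hx) with h2 | h2
    · exact absurd h2 (hc j l hl)
    · exact h.map_eq_zero.1 (h2 z hz _ (h1 x hx))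
  · exact h1 w hw y (hX j hy)

end Decomp

section Quad

variable {Q : (ι → F) → F}

theorem exists_quad_eq [Finite F] (h : Alt f) (h2 : ringChar F = 2) (h3 : 3 ≤ Fintype.card ι)
    (hs : ∀ (c : F) v, Q (c • v) = c ^ 2 * Q v) (ha : ∀ u v, Q (u + v) = Q u + Q v + f u v)
    {x y : ι → F} (hxy : f x y ≠ 0) (b : F) : ∃ z, f z x = 0 ∧ f z y = 0 ∧ Q z = b := by
  have h1 := card_le_finrank_dotKer₂ (dv (RingHom.id F) f x) (dv (RingHom.id F) f y)
  obtain ⟨z, ⟨hzx, hzy⟩, hz0⟩ := (Submodule.ne_bot_iff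
    (dotKer (dv (RingHom.id F) f x) ⊓ dotKer (dv (RingHom.id F) f y))).1 fun h0 => by
      rw [h0, finrank_bot] at h1
      omega
  simp only [SetLike.mem_coe, mem_dotKer, dv_dot h.toSForm] at hzx hzy
  obtain ⟨w, hw, hw'⟩ := exists_form_of_notMem h.toSForm (W := Submodule.span F {x, y}) (x := z)
    (fun hm => by
      obtain ⟨a, b, rfl⟩ := Submodule.mem_span_pair.1 hm
      rw [h.add_left, h.smul_left, h.smul_left, h.alt, h.skew y] at hzx
      rw [h.add_left, h.smul_left, h.smul_left, h.alt] at hzy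
      simp only [mul_zero, zero_add, add_zero, mul_neg, neg_eq_zero, mul_eq_zero, hxy,
        or_false] at hzx hzy
      simp [hzx, hzy] at hz0) 1
  have hwx := h.map_eq_zero.1 (hw x (Submodule.subset_span (by simp)))
  have hwy := h.map_eq_zero.1 (hw y (Submodule.subset_span (by simp)))
  obtain ⟨u, h4, h5, h6⟩ : ∃ u, f u x = 0 ∧ f u y = 0 ∧ Q u ≠ 0 := by
    by_contra! hc
    have := hc (z + w) (by rw [h.add_left, hzx, hwx, add_zero])
      (by rw [h.add_left, hzy, hwy, add_zero])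
    simp [ha, hc z hzx hzy, hc w hwx hwy, hw'] at this
  obtain ⟨s, hs'⟩ := FiniteField.isSquare_of_char_two h2 (b / Q u)
  exact ⟨s • u, by rw [h.smul_left, h4, mul_zero], by rw [h.smul_left, h5, mul_zero],
    by rw [hs, sq, ← hs', div_mul_cancel₀ _ h6]⟩

theorem isMaximalIn_quad [Finite F] (h : Alt f) (h2 : ringChar F = 2) (h3 : 3 ≤ Fintype.card ι)
    (hQ : IsNondegenerateQuadraticForm Q) (hp : ∀ u v, QuadraticMap.polar Q u v = f u v) :
    IsMaximalIn (iso f) (quadSimilarityGroup Q ⊓ iso f) := by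
  have hs := hQ.smul
  have ha : ∀ u v, Q (u + v) = Q u + Q v + f u v := fun u v => by
    rw [← hp, QuadraticMap.polar]
    ring
  have h20 : (2 : F) = 0 := by simpa [h2] using ringChar.Nat.cast_ringChar (R := F)
  have hQ0 : Q 0 = 0 := by simpa using hs 0 0
  have hex : ∀ {x : ι → F}, x ≠ 0 → ∀ s b, ∃ y, f y x = s ∧ Q y = b := fun {x} hx s b => by
    obtain ⟨y, hy⟩ := exists_form_ne_zero h.toSForm hx
    obtain ⟨z, hz1, hz2, hz3⟩ := exists_quad_eq h h2 h3 hs ha hy (b - Q ((s / f y x) • y))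
    refine ⟨(s / f y x) • y + z, ?_, ?_⟩
    · rw [h.add_left, h.smul_left, hz2, add_zero, div_mul_cancel₀ _ hy]
    · rw [ha, hz3, h.smul_left, h.map_eq_zero.1 hz1]
      ring
  have : Nonempty ι := Fintype.card_pos_iff.1 (by omega)
  obtain ⟨x₀, hx₀⟩ := exists_ne (0 : ι → F)
  refine isMaximalIn_inf (fun hle => ?_) fun M hM hMi g hg hgQ => ?_
  · obtain ⟨u, -, hu⟩ := hex hx₀ 0 1
    have hu0 : u ≠ 0 := fun h0 => by simp [h0, hQ0] at hu
    obtain ⟨y, hy, hy'⟩ := hex hu0 1 0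
    obtain ⟨g, hg, hg'⟩ := h.exists_st y 1
    obtain ⟨c, hc⟩ := hle hg
    obtain ⟨z, hz, hz'⟩ := hex (x := y) (fun h0 => by simp [h0, h.zero_left] at hy) 1 0
    have := hc z
    simp [hg', ha, hz, hz', hy'] at this
  have hW : Forms.WittForm (RingHom.id F) h.bilin Q (AddMonoidHom.id F) :=
    { surj := Function.surjective_id
      flip := fun u v u' v' h1 => by
        simp only [h.bilin_apply] at h1 ⊢
        rw [h.skew, h1, ← h.skew]
      nondeg := h.nondeg'
      add := ha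
      smul := fun t v w h1 => by rw [hs, hs, h1]
      self := fun v w _ => (h.alt v).trans (h.alt w).symm
      trace := fun v w => ⟨_, rfl⟩ }
  have witt : ∀ x y, x ≠ 0 → y ≠ 0 → Q x = Q y → Ei M f x 0 1 → Ei M f y 0 1 := by
    intro x y hx hy hxy he
    obtain ⟨e, h1, h4, -, h5⟩ := hW.step ⊥ x y hx hy (by simp [h.zero_left]) hxy
    obtain ⟨k, hk⟩ := exists_GL_of_linearEquiv e
    have hki : k ∈ iso f := fun u v => by rw [hk, hk]; exact h1 u v
    simpa [hk, h5] using he.conj (hM ⟨⟨1, fun v => by simp [hk, h4]⟩, hki⟩) hki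
  have refl : ∀ v, Q v = 1 → Ei M f v 0 1 := fun v hv =>
    Ei.of_forall h (h.zero_left v) fun k hk hk' => hM ⟨⟨1, fun x => by
      simp only [hk', smul_zero, add_zero, h.zero_right, zero_add, ha, hs, hv, h.smul_right',
        Units.val_one]
      linear_combination (f x v) ^ 2 * h20⟩, hk⟩
  obtain ⟨v, hv, hgv⟩ : ∃ v, Q v = 1 ∧ Q (g.1 *ᵥ v) ≠ 1 := by
    by_contra! hc
    have h1 : ∀ x, Q x ≠ 0 → Q (g.1 *ᵥ x) = Q x := fun x hx => by
      obtain ⟨s, hs'⟩ := FiniteField.isSquare_of_char_two h2 (Q x)⁻¹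
      have h4 := hc (s • x) (by rw [hs, sq, ← hs', inv_mul_cancel₀ hx])
      rw [mulVec_smul, hs, sq, ← hs'] at h4
      exact ((inv_mul_eq_one₀ hx).1 h4).symm
    refine hgQ ⟨1, fun x => ?_⟩
    rw [Units.val_one, one_mul]
    by_cases hx : Q x = 0
    swap
    · exact h1 x hx
    by_cases hx0 : x = 0
    · rw [hx0, mulVec_zero]
    obtain ⟨y, hy, hy'⟩ := hex hx0 0 1
    have h4 := h1 (y + x) (by simp [ha, hy, hy', hx])
    rw [mulVec_add, ha, ha, hMi hg, h1 y (by simp [hy'])] at h4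
    simpa using h4
  have hv0 : g.1 *ᵥ v ≠ 0 := GL_mulVec_ne_zero g fun h0 => by simp [h0, hQ0] at hv
  obtain ⟨k, hk, hki, hk'⟩ := ((refl v hv).conj hg (hMi hg)).exists_iso h
  have hall : ∀ w, Ei M f w 0 1 := fun w => by
    by_cases hw : w = 0
    · exact hw ▸ Ei.zero_left h M 0 1
    have h4 : Q (g.1 *ᵥ v) + 1 ≠ 0 := fun h0 => hgv (by linear_combination h0 - h20)
    obtain ⟨s, hs'⟩ := FiniteField.isSquare_of_char_two h2 ((Q w - 1) / (Q (g.1 *ᵥ v) + 1))
    obtain ⟨x, hx, hx'⟩ := hex hv0 s 1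
    refine witt (k.1 *ᵥ x) w (GL_mulVec_ne_zero k fun h0 => by simp [h0, hQ0] at hx') hw ?_
      (by simpa using (refl x hx').conj hk hki)
    rw [div_eq_iff h4] at hs'
    simp only [hk', mulVec_zero, smul_zero, add_zero, h.zero_right, zero_add, ha, hs, hx, hx',
      h.smul_right']
    linear_combination -hs'
  refine h.iso_le fun w c => ?_
  obtain ⟨s, rfl⟩ := FiniteField.isSquare_of_char_two h2 c
  simpa [sq] using (hall (s • w)).of_smul h (h.zero_left w)

end Quad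

end Cfsg.Lib.Symp
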