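import Cfsg.Agent.Lib.Symp.MaxRed
import Cfsg.Agent.Lib.Linear.MaxField2

/-!
# Alternating forms which are traces of alternating forms over an extension field
-/

set_option linter.unusedSectionVars false

namespace Cfsg.Lib.Symp

open Matrix Module Cfsg.Geo Cfsg.Lib.Asch Cfsg.Lib.Linear
open scoped MatrixGroups

theorem exists_coef (F K : Type*) [Field F] [Field K] [Algebra F K] [Module.Finite F K] :
    ∃ τ : K →ₗ[F] F, τ 1 = 1 ∧ ∀ l : K →ₗ[F] F, ∃ b : K, ∀ κ, τ (κ * b) = l κ := by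
  obtain ⟨τ, -, hτ⟩ := exists_dual_of_notMem (K := F) (W := ⊥) (v := (1 : K)) one_ne_zero 1
  let L : K →ₗ[F] (K →ₗ[F] F) :=
    { toFun := fun b => τ ∘ₗ LinearMap.mulRight F b
      map_add' := fun a b => LinearMap.ext fun κ => by simp [mul_add]
      map_smul' := fun c b => LinearMap.ext fun κ => by simp }
  have h1 : Function.Injective L := by
    rw [injective_iff_map_eq_zero]
    intro b hb
    by_contra h0
    have : τ (b⁻¹ * b) = 0 := LinearMap.congr_fun hb b⁻¹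
    rw [inv_mul_cancel₀ h0, hτ] at this
    exact one_ne_zero this
  have h2 := (LinearMap.injective_iff_surjective_of_finrank_eq_finrank
    (Module.finrank_linearMap_self F F K).symm).1 h1
  exact ⟨τ, hτ, fun l => (h2 l).imp fun b hb κ => LinearMap.congr_fun hb κ⟩

theorem eq_of_forall_coef {F K : Type*} [Field F] [Field K] [Algebra F K] {τ : K →ₗ[F] F}
    (hτ : τ 1 = 1) {a b : K} (h : ∀ κ, τ (κ * a) = τ (κ * b)) : a = b := by
  by_contra h0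
  have := h (a - b)⁻¹
  rw [← sub_eq_zero, ← map_sub, ← mul_sub, inv_mul_cancel₀ (sub_ne_zero.2 h0), hτ] at this
  exact one_ne_zero this

variable {ι : Type} [Fintype ι] [DecidableEq ι] {F : Type*} [Field F] {K : Type*} [Field K]
  [Algebra F K] [Module K (ι → F)] [IsScalarTower F K (ι → F)]
  {f : (ι → F) → (ι → F) → F} {M : Subgroup (GL ι F)}

/-- `f = τ ∘ B` with `B` an alternating form over `K`. -/
structure KAlt (f : (ι → F) → (ι → F) → F) (τ : K →ₗ[F] F)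
    (B : (ι → F) →ₗ[K] (ι → F) →ₗ[K] K) : Prop extends Alt f where
  one : τ 1 = 1
  eq : ∀ x y, f x y = τ (B x y)
  kalt : ∀ x, B x x = 0

theorem exists_kAlt [Module.Finite F K] (h : Alt f) (hs : ∀ (κ : K) x y, f (κ • x) y = f x (κ • y))
    (ha : ∀ (κ : K) x, f (κ • x) x = 0) : ∃ τ B, KAlt (K := K) f τ B := by
  obtain ⟨τ, h1, h2⟩ := exists_coef F K
  choose b hb using fun x y => h2 (h.bilin.flip y ∘ₗ
    (LinearMap.toSpanSingleton K _ x).restrictScalars F)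
  replace hb : ∀ x y κ, τ (κ * b x y) = f (κ • x) y := hb
  refine ⟨τ, LinearMap.mk₂ K b (fun x x' y => eq_of_forall_coef h1 fun κ => ?_)
    (fun c x y => eq_of_forall_coef h1 fun κ => ?_)
    (fun x y y' => eq_of_forall_coef h1 fun κ => ?_)
    (fun c x y => eq_of_forall_coef h1 fun κ => ?_), h, h1, fun x y => ?_,
    fun x => eq_of_forall_coef h1 fun κ => ?_⟩
  · rw [mul_add, map_add, hb, hb, hb, smul_add, h.add_left]
  · rw [smul_eq_mul, ← mul_assoc, hb, hb, smul_smul]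
  · rw [mul_add, map_add, hb, hb, hb, h.add_right]
  · rw [smul_eq_mul, ← mul_assoc, hb, hb, ← hs, smul_smul, mul_comm]
  · rw [LinearMap.mk₂_apply, ← one_mul (b x y), hb, one_smul]
  · rw [LinearMap.mk₂_apply, hb, ha, mul_zero, map_zero]

namespace KAlt

variable {τ : K →ₗ[F] F} {B : (ι → F) →ₗ[K] (ι → F) →ₗ[K] K}

theorem kskew (h : KAlt f τ B) (x y : ι → F) : B x y = - B y x := by
  have := h.kalt (x + y)
  simp only [map_add, LinearMap.add_apply, h.kalt] at this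
  linear_combination this

theorem smul_eq (h : KAlt f τ B) (κ : K) (x y : ι → F) : f (κ • x) y = τ (κ * B x y) := by
  rw [h.eq, map_smul, LinearMap.smul_apply, smul_eq_mul]

theorem smul_comm' (h : KAlt f τ B) (κ : K) (x y : ι → F) : f (κ • x) y = f x (κ • y) := by
  rw [h.smul_eq, h.eq, map_smul, smul_eq_mul]

theorem exists_eq (h : KAlt f τ B) (ψ : (ι → F) →ₗ[K] K) : ∃ z, ∀ x, B x z = ψ x := by
  obtain ⟨φ, hφ⟩ := exists_dot_eq (τ ∘ₗ ψ.restrictScalars F)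
  obtain ⟨z, hz⟩ := exists_form_eq h.toSForm φ
  refine ⟨z, fun x => eq_of_forall_coef h.one fun κ => ?_⟩
  rw [← h.smul_eq, hz, hφ]
  simp

theorem exists_ne (h : KAlt f τ B) {u : ι → F} (hu : u ≠ 0) : ∃ x, B x u ≠ 0 := by
  obtain ⟨x, hx⟩ := exists_form_ne_zero h.toSForm hu
  exact ⟨x, fun h0 => hx (by rw [h.eq, h0, map_zero])⟩

theorem eq_zero_of_mem (h : KAlt f τ B) {u x : ι → F} (hx : x ∈ kPt K u) : B x u = 0 := by
  obtain ⟨κ, rfl⟩ := mem_kPt.1 hx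
  rw [map_smul, LinearMap.smul_apply, h.kalt, smul_zero]

theorem f_eq_zero_of_mem (h : KAlt f τ B) {u x y : ι → F} (hx : x ∈ kPt K u)
    (hy : y ∈ kPt K u) : f x y = 0 := by
  obtain ⟨κ, rfl⟩ := mem_kPt.1 hy
  rw [h.eq, map_smul, h.eq_zero_of_mem hx, smul_zero, map_zero]

theorem finrank_lt (h : KAlt f τ B) [Nonempty ι] : finrank F K < Fintype.card ι := by
  obtain ⟨u, hu⟩ := _root_.exists_ne (0 : ι → F)
  obtain ⟨x, hx⟩ := h.exists_ne hu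
  have := Submodule.finrank_lt (s := kPt K u) fun h0 =>
    hx (h.eq_zero_of_mem (h0 ▸ Submodule.mem_top))
  rwa [finrank_kPt hu, Module.finrank_fintype_fun_eq_card] at this

/-- `K`-linear isometries in `M`. -/
def Kl (K : Type*) [Field K] [Module K (ι → F)] (f : (ι → F) → (ι → F) → F) (g : GL ι F) : Prop :=
  g ∈ iso f ∧ ∀ (κ : K) x, g.1 *ᵥ (κ • x) = κ • g.1 *ᵥ x

omit [Algebra F K] [IsScalarTower F K (ι → F)] in
theorem Kl.mem {g : GL ι F} (hg : Kl K f g) : g ∈ semiGL K ⊓ iso f :=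
  ⟨mem_semiGL_of_linear hg.2, hg.1⟩

omit [Algebra F K] [IsScalarTower F K (ι → F)] in
theorem Kl.mul {g k : GL ι F} (hg : Kl K f g) (hk : Kl K f k) : Kl K f (g * k) :=
  ⟨mul_mem hg.1 hk.1, fun κ x => by rw [GL_mul_mulVec, GL_mul_mulVec, hk.2, hg.2]⟩

theorem exists_eich (h : KAlt f τ B) {u z : ι → F} (hz : B z u = 0) (c : K) :
    ∃ g, Kl K f g ∧ ∀ x, g.1 *ᵥ x = x + B x u • z + (B x z + c * B x u) • u := by
  let A : (ι → F) →ₗ[K] (ι → F) := LinearMap.id + (B.flip u).smulRight z +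
    (B.flip z + c • B.flip u).smulRight u
  have hA : ∀ x, A x = x + B x u • z + (B x z + c * B x u) • u := fun x => rfl
  obtain ⟨g, hg, h1⟩ := h.toAlt.exists_iso_of_linear (A.restrictScalars F) fun x y => by
    change f (A x) (A y) = f x y
    rw [h.eq, h.eq, hA, hA]
    congr 1
    simp only [map_add, map_smul, LinearMap.add_apply, LinearMap.smul_apply, smul_eq_mul, h.kalt,
      hz, h.kskew u z, h.kskew z y, h.kskew u y]
    ring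
  replace h1 : ∀ x, g.1 *ᵥ x = A x := h1
  exact ⟨g, ⟨hg, fun κ x => by rw [h1, h1, map_smul]⟩, h1⟩

theorem exists_map_of_ne (h : KAlt f τ B) {u v : ι → F} (huv : B u v ≠ 0) :
    ∃ g, Kl K f g ∧ g.1 *ᵥ u = v := by
  obtain ⟨g, hg, h1⟩ := h.exists_eich (u := v - u) (z := 0) (by simp) (B u v)⁻¹
  refine ⟨g, hg, ?_⟩
  rw [h1, map_sub, h.kalt, sub_zero, map_zero, inv_mul_cancel₀ huv]
  simp

theorem exists_map (h : KAlt f τ B) {u v : ι → F} (hu : u ≠ 0) (hv : v ≠ 0) :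
    ∃ g, Kl K f g ∧ g.1 *ᵥ u = v := by
  obtain ⟨w, h1, h2⟩ : ∃ w, B w u ≠ 0 ∧ B w v ≠ 0 := by
    obtain ⟨a, ha⟩ := h.exists_ne hu
    obtain ⟨b, hb⟩ := h.exists_ne hv
    by_cases h1 : B a v = 0
    · by_cases h2 : B b u = 0
      · exact ⟨a + b, by simpa [h2] using ha, by simpa [h1] using hb⟩
      · exact ⟨b, h2, hb⟩
    · exact ⟨a, ha, h1⟩
  obtain ⟨g, hg, h3⟩ := h.exists_map_of_ne (u := u) (v := w) (by rwa [h.kskew, neg_ne_zero])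
  obtain ⟨k, hk, h4⟩ := h.exists_map_of_ne h2
  exact ⟨k * g, hk.mul hg, by rw [GL_mul_mulVec, h3, h4]⟩

theorem iso_le_of_lr (h : KAlt f τ B) (hM : semiGL K ⊓ iso f ≤ M) {d : ι → F} (hd : d ≠ 0)
    (hL : Lr M f d) : iso f ≤ M := h.toAlt.iso_le fun v => by
  rcases eq_or_ne v 0 with rfl | hv
  · exact Lr.zero h.toAlt
  obtain ⟨g, hg, rfl⟩ := h.exists_map hd hv
  exact hL.conj (hM hg.mem) hg.1

theorem exists_map_kPt (h : KAlt f τ B) (hM : semiGL K ⊓ iso f ≤ M) {u v : ι → F} (hu : u ≠ 0)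
    (hv : v ≠ 0) : ∃ s ∈ M, ∀ x, s.1 *ᵥ x ∈ kPt K v ↔ x ∈ kPt K u := by
  obtain ⟨s, hs, rfl⟩ := h.exists_map hu hv
  refine ⟨s, hM hs.mem, fun x => ⟨fun hx => ?_, fun hx => ?_⟩⟩
  · obtain ⟨κ, hκ⟩ := mem_kPt.1 hx
    exact mem_kPt.2 ⟨κ, GL_mulVec_injective s ((hs.2 κ u).trans hκ)⟩
  · obtain ⟨κ, rfl⟩ := mem_kPt.1 hx
    exact mem_kPt.2 ⟨κ, (hs.2 κ u).symm⟩

end KAlt

/-- The reduction to transvections on a `K`-line, when all `K`-linear maps `V / K u → K u` are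
induced on the image of `K u`. -/
theorem exists_tv_of_max (hr : (finrank F K).Prime) {u : ι → F} {g : GL ι F} (hg : g ∈ M)
    {d₀ x₀ : ι → F} (hd₀ : d₀ ∈ kPt K u) (hd₀0 : d₀ ≠ 0) (hd₀' : g.1 *ᵥ d₀ ∈ kPt K u)
    (hx₀ : x₀ ∈ kPt K u) (hx₀' : g.1 *ᵥ x₀ ∉ kPt K u)
    (hmax : ∀ s ∈ M, (∀ x ∈ kPt K u, g.1 *ᵥ x ∈ kPt K u → s.1 *ᵥ (g.1 *ᵥ x) = g.1 *ᵥ x) →
      ∀ x₀ ∈ kPt K u, g.1 *ᵥ x₀ ∉ kPt K u → (∃ y ∈ kPt K u, s.1 *ᵥ (g.1 *ᵥ x₀) = g.1 *ᵥ y) →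
        ∀ x ∈ kPt K u, ∃ y ∈ kPt K u, s.1 *ᵥ (g.1 *ᵥ x) = g.1 *ᵥ y)
    (hs : ∀ ψ : (ι → F) →ₗ[K] K, ψ u = 0 →
      ∃ s ∈ M, ∀ x ∈ kPt K u, s.1 *ᵥ (g.1 *ᵥ x) = g.1 *ᵥ x + ψ (g.1 *ᵥ x) • u) :
    ∃ θ : ι → F, θ ⬝ᵥ x₀ = 1 ∧ θ ⬝ᵥ d₀ = 0 ∧
      ∀ c : F, ∃ z ∈ M, ∀ x ∈ kPt K u, z.1 *ᵥ x = x + (θ ⬝ᵥ x) • c • d₀ := by
  have key : ∀ ψ : (ι → F) →ₗ[K] K, ψ u = 0 → ψ (g.1 *ᵥ x₀) ∈ coefSub K g u →
      ∀ x ∈ kPt K u, ψ (g.1 *ᵥ x) ∈ coefSub K g u := fun ψ hψ ⟨d, hd, h1⟩ x hx => by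
    obtain ⟨s, hs, h2⟩ := hs ψ hψ
    replace h1 : g.1 *ᵥ d = ψ (g.1 *ᵥ x₀) • u := h1
    obtain ⟨y, hy, h3⟩ := hmax s hs
      (fun x hx hx' => by rw [h2 x hx, dual_eq_zero hψ hx', zero_smul, add_zero]) x₀ hx₀ hx₀'
      ⟨x₀ + d, add_mem hx₀ hd, by rw [h2 _ hx₀, mulVec_add, h1]⟩ x hx
    exact mem_coefSub.2 ⟨y - x, sub_mem hy hx, by
      rw [mulVec_sub, ← h3, h2 x hx, add_sub_cancel_left]⟩
  have hu : ∀ a : K, a • u ≠ g.1 *ᵥ x₀ := fun a ha => hx₀' (mem_kPt.2 ⟨a, ha⟩)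
  have h1 : ∀ x ∈ kPt K u, ∃ c : F, g.1 *ᵥ (x - c • x₀) ∈ kPt K u := fun x hx => by
    by_cases h1 : ∀ a b : K, a • u + b • g.1 *ᵥ x₀ ≠ g.1 *ᵥ x
    · refine (coefSub_ne_top hx₀ hx₀' (eq_top_iff.2 fun κ _ => ?_)).elim
      obtain ⟨ψ, h2, h3, rfl⟩ := exists_dual_pair h1 κ
      exact key ψ h2 (h3 ▸ zero_mem _) x hx
    push Not at h1
    obtain ⟨a, l, h1⟩ := h1
    obtain ⟨c, rfl⟩ := mem_range_of_mul_mem hr (coefSub_ne_bot hd₀ hd₀0 hd₀')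
      (coefSub_ne_top hx₀ hx₀') (l := l) fun δ hδ => by
        obtain ⟨ψ, h2, rfl⟩ := exists_dual_single hu δ
        have := key ψ h2 hδ x hx
        rwa [← h1, map_add, map_smul, map_smul, h2, smul_zero, zero_add] at this
    refine ⟨c, mem_kPt.2 ⟨a, ?_⟩⟩
    rw [mulVec_sub, mulVec_smul, ← h1, algebraMap_smul, add_sub_cancel_right]
  obtain ⟨θ, h2, h3⟩ := exists_dot_of_notMem (W := kPt K u ⊓ (kPt K u).comap (toLin' g.1))
    (v := x₀) fun h => hx₀' h.2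
  have h4 : ∀ x ∈ kPt K u, g.1 *ᵥ (x - (θ ⬝ᵥ x) • x₀) ∈ kPt K u := fun x hx => by
    obtain ⟨c, hc⟩ := h1 x hx
    have := h2 _ ⟨sub_mem hx (Submodule.smul_mem _ c hx₀), hc⟩
    rw [dotProduct_sub, dotProduct_smul, h3, smul_eq_mul, mul_one, sub_eq_zero] at this
    rwa [this]
  refine ⟨θ, h3, h2 _ ⟨hd₀, hd₀'⟩, fun c => ?_⟩
  obtain ⟨δ, hδ⟩ := mem_kPt.1 (Submodule.smul_mem _ c hd₀')
  obtain ⟨ψ, h6, h7⟩ := exists_dual_single hu δ
  obtain ⟨s, hs, h8⟩ := hs ψ h6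
  refine ⟨g⁻¹ * s * g, mul_mem (mul_mem (inv_mem hg) hs) hg, fun x hx => ?_⟩
  have h9 := dual_eq_zero h6 (h4 x hx)
  rw [mulVec_sub, mulVec_smul, map_sub, LinearMap.map_smul_of_tower, h7, sub_eq_zero] at h9
  rw [GL_mul_mulVec, GL_mul_mulVec, h8 x hx, h9, smul_assoc, hδ, ← mulVec_smul, ← mulVec_smul,
    ← mulVec_add, GL_inv_mulVec_mulVec]

/-- The map `x ↦ f(x, a) b + f(x, b) a + c f(x, a) a`. -/
def Alt.ew (h : Alt f) (a b : ι → F) (c : F) : (ι → F) →ₗ[F] (ι → F) :=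
  (h.bilin.flip a).smulRight b + (h.bilin.flip b + c • h.bilin.flip a).smulRight a

theorem Alt.ew_apply (h : Alt f) (a b : ι → F) (c : F) (x : ι → F) :
    h.ew a b c x = f x a • b + (f x b + c * f x a) • a := rfl

theorem Ei.of_unA (h : Alt f) {U : Submodule F (ι → F)} {a b : ι → F} {c : F}
    (hab : f b a = 0) (he : h.ew a b c ∈ unA M U) : Ei M f a b c := by
  obtain ⟨-, -, g, hg, h1⟩ := he
  exact ⟨hab, g, hg, fun x => by rw [h1, h.ew_apply, add_assoc]⟩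

theorem Ei.mem_unA (h : Alt f) {U : Submodule F (ι → F)} (hU : ∀ x ∈ U, ∀ y ∈ U, f x y = 0)
    {a b : ι → F} {c : F} (ha : a ∈ U) (hb : b ∈ U) (he : Ei M f a b c) :
    h.ew a b c ∈ unA M U := by
  obtain ⟨-, g, hg, h1⟩ := he
  refine ⟨fun x => add_mem (U.smul_mem _ hb) (U.smul_mem _ ha), fun x hx => ?_, g, hg,
    fun x => by rw [h1, h.ew_apply, add_assoc]⟩
  rw [h.ew_apply, hU x hx a ha, hU x hx b hb]
  simp

/-- Elements `1 + Y` of the symplectic group with `Y V ≤ U` totally singular. -/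
theorem skew_of_unA (h : Alt f) (hM : M ≤ iso f) {U : Submodule F (ι → F)}
    (hU : ∀ x ∈ U, ∀ y ∈ U, f x y = 0) {Y : (ι → F) →ₗ[F] (ι → F)} (hY : Y ∈ unA M U)
    (x y : ι → F) : f (Y x) y = f (Y y) x := by
  obtain ⟨h1, -, g, hg, h2⟩ := hY
  have := hM hg x y
  rw [h2, h2, h.add_left, h.add_right, h.add_right, hU _ (h1 x) _ (h1 y), h.skew x (Y y)] at this
  linear_combination this

/-- Conjugating by an element inducing a transvection on `U`. -/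
theorem ei_of_tv_on (h : Alt f) (hM : M ≤ iso f) {U : Submodule F (ι → F)}
    (hU : ∀ x ∈ U, ∀ y ∈ U, f x y = 0) {Y : (ι → F) →ₗ[F] (ι → F)} (hY : Y ∈ unA M U)
    {a d : ι → F} (hd : d ∈ U) {z : GL ι F} (hz : z ∈ M)
    (h1 : ∀ x ∈ U, z.1 *ᵥ x = x + f a x • d) : Ei M f d (Y a) (f a (Y a)) := by
  have h2 : ∀ x ∈ U, z.1 *ᵥ x ∈ U := fun x hx => by
    rw [h1 x hx]; exact add_mem hx (U.smul_mem _ hd)
  refine Ei.of_unA h (U := U) (hU _ (hY.1 a) _ hd) ?_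
  convert sub_mem (unA_conj_stab hY hz h2) hY using 1
  refine LinearMap.ext fun x => ?_
  have h3 : Y ((z⁻¹).1 *ᵥ x) = Y x + f x d • Y a := h.ext_left fun y => by
    rw [skew_of_unA h hM hU hY, ← hM hz, GL_mulVec_inv_mulVec, h1 _ (hY.1 y), h.add_left,
      h.add_left, h.smul_left, h.smul_left, skew_of_unA h hM hU hY y x, h.skew a, h.skew d,
      skew_of_unA h hM hU hY y a]
    ring
  simp only [LinearMap.sub_apply, LinearMap.comp_apply, mulVecLin_apply, h.ew_apply]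
  rw [h3, h1 _ (add_mem (hY.1 x) (U.smul_mem _ (hY.1 a))), h.add_right, h.smul_right',
    h.skew a (Y x), skew_of_unA h hM hU hY x a, h.skew (Y a) x]
  module

end Cfsg.Lib.Symp
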