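import Cfsg.Agent.Lib.Linear.FormMax
import Cfsg.Agent.Lib.Symp.Group

/-!
# Root elements in subgroups of a symplectic group, and McLaughlin's argument
-/

namespace Cfsg.Lib.Symp

open Matrix Module Cfsg.Geo Cfsg.Lib.Asch Cfsg.Lib.Linear
open scoped MatrixGroups

variable {ι : Type} [Fintype ι] [DecidableEq ι] {F : Type*} [Field F]
  {f : (ι → F) → (ι → F) → F} {M M' : Subgroup (GL ι F)}

theorem exists_GL_of_linearEquiv (e : (ι → F) ≃ₗ[F] (ι → F)) : ∃ g : GL ι F, ∀ x, g.1 *ᵥ x = e x :=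
  ⟨GeneralLinearGroup.toLin.symm (LinearMap.GeneralLinearGroup.ofLinearEquiv e), fun x =>
    congrArg (fun y : LinearMap.GeneralLinearGroup F (ι → F) => y.1 x)
      (GeneralLinearGroup.toLin.apply_symm_apply (LinearMap.GeneralLinearGroup.ofLinearEquiv e))⟩

theorem exists_linearEquiv_of_GL (g : GL ι F) : ∃ e : (ι → F) ≃ₗ[F] (ι → F), ∀ x, e x = g.1 *ᵥ x :=
  ⟨(GeneralLinearGroup.toLin g).toLinearEquiv, fun _ => rfl⟩

/-- A non-degenerate alternating form. -/
structure Alt (f : (ι → F) → (ι → F) → F) : Prop extends SForm (RingHom.id F) (-1) f where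
  alt : ∀ x, f x x = 0

theorem alt_of_symplectic (hf : IsSymplecticForm f) : Alt f :=
  ⟨sform_of_symplectic hf, hf.alternating⟩

theorem alt_sympForm (m : ℕ) : Alt (sympForm m F) where
  add_left x y v := by simp [sympForm_eq_bil]
  smul_left c x v := by simp [sympForm_eq_bil]
  herm u v := by simp [sympForm_eq_bil, (bil_isAlt (Fin m) F).neg_eq]
  nondeg v hv := (bil_nondegenerate (Fin m) F).2 v fun x => by rw [← sympForm_eq_bil, hv]
  invol _ := rfl
  eps := by simp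
  alt x := by rw [sympForm_eq_bil, bil_isAlt (Fin m) F x]

theorem spGL_eq (m : ℕ) : spGL m F = iso (sympForm m F) := rfl

namespace Alt

theorem skew (h : Alt f) (x y : ι → F) : f x y = -f y x := by simpa using h.herm x y

theorem smul_right' (h : Alt f) (c : F) (x y : ι → F) : f x (c • y) = c * f x y :=
  h.smul_right c x y

theorem tForm (h : Alt f) : TForm (RingHom.id F) (-1) f := tForm_of_alt h.toSForm h.alt

/-- The form as a bilinear map. -/
def bilin (h : Alt f) : LinearMap.BilinForm F (ι → F) :=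
  LinearMap.mk₂ F f h.add_left h.smul_left h.add_right h.smul_right'

@[simp] theorem bilin_apply (h : Alt f) (x y : ι → F) : h.bilin x y = f x y := rfl

theorem isAlt (h : Alt f) : h.bilin.IsAlt := h.alt

theorem nondegenerate (h : Alt f) : h.bilin.Nondegenerate := ⟨h.nondeg', h.nondeg⟩

theorem exists_iso_of_family (h : Alt f) {κ : Type*} (x y : κ → ι → F)
    (hx : LinearIndependent F x) (hy : LinearIndependent F y)
    (hG : ∀ i j, f (x i) (x j) = f (y i) (y j)) : ∃ g ∈ iso f, ∀ i, g.1 *ᵥ x i = y i := by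
  obtain ⟨e, he, he'⟩ := exists_isom_of_family h.isAlt h.nondegenerate x y hx hy hG
  obtain ⟨g, hg⟩ := exists_GL_of_linearEquiv e
  exact ⟨g, fun u v => by rw [hg, hg]; exact he u v, fun i => by rw [hg, he']⟩

theorem exists_iso_of_linear (h : Alt f) (A : (ι → F) →ₗ[F] (ι → F))
    (hA : ∀ x y, f (A x) (A y) = f x y) : ∃ g ∈ iso f, ∀ x, g.1 *ᵥ x = A x := by
  have hi : Function.Injective A := (injective_iff_map_eq_zero A).2 fun x hx =>
    h.nondeg x fun y => by rw [← hA, hx, h.zero_right]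
  obtain ⟨g, hg⟩ := exists_GL_of_linearEquiv
    (LinearEquiv.ofBijective A ⟨hi, LinearMap.injective_iff_surjective.1 hi⟩)
  exact ⟨g, fun u v => by rw [hg, hg]; exact hA u v, hg⟩

end Alt

/-- `M` contains the element `x ↦ x + f(x, u) z + (f(x, z) + c f(x, u)) u` of the unipotent radical
of the stabiliser of `u`. -/
def Ei (M : Subgroup (GL ι F)) (f : (ι → F) → (ι → F) → F) (u z : ι → F) (c : F) : Prop :=
  f z u = 0 ∧ ∃ g ∈ M, ∀ x, g.1 *ᵥ x = x + f x u • z + (f x z + c * f x u) • u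

namespace Ei

variable {u v z z' : ι → F} {c c' : F}

theorem mono (he : Ei M f u z c) (hM : M ≤ M') : Ei M' f u z c :=
  ⟨he.1, he.2.imp fun _ h => ⟨hM h.1, h.2⟩⟩

theorem of_forall (h : Alt f) (hz : f z u = 0) (hM : ∀ g ∈ iso f,
    (∀ x, g.1 *ᵥ x = x + f x u • z + (f x z + c * f x u) • u) → g ∈ M) : Ei M f u z c := by
  obtain ⟨E, hE, hE'⟩ := exists_eichler h.toSForm (h.alt u) hz (c := -c) (by simp [h.alt])
  have : ∀ x, E.1 *ᵥ x = x + f x u • z + (f x z + c * f x u) • u := fun x => by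
    rw [hE']
    simp only [RingHom.id_apply]
    module
  exact ⟨hz, E, hM E hE.1 this, this⟩

theorem iso (h : Alt f) (hz : f z u = 0) (c : F) : Ei (iso f) f u z c :=
  of_forall h hz fun _ hg _ => hg

theorem congr (he : Ei M f u z c) (hz : f z' v = 0)
    (h : ∀ x, f x u • z + (f x z + c * f x u) • u = f x v • z' + (f x z' + c' * f x v) • v) :
    Ei M f v z' c' := by
  obtain ⟨-, g, hg, hg'⟩ := he
  exact ⟨hz, g, hg, fun x => by rw [hg', add_assoc, h, add_assoc]⟩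

theorem mul (h : Alt f) (he : Ei M f u z c) (he' : Ei M f u z' c') :
    Ei M f u (z + z') (c + c' + f z' z) := by
  obtain ⟨h1, g, hg, hg'⟩ := he
  obtain ⟨h2, k, hk, hk'⟩ := he'
  refine ⟨by rw [h.add_left, h1, h2, add_zero], g * k, M.mul_mem hg hk, fun x => ?_⟩
  simp only [GL_mul_mulVec, hg', hk', h.add_left, h.add_right, h.smul_left, h1, h2, h.alt,
    h.map_eq_zero.1 h1]
  module

theorem inv (h : Alt f) (he : Ei M f u z c) : Ei M f u (-z) (-c) := by
  obtain ⟨h1, g, hg, hg'⟩ := he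
  refine ⟨by rw [h.neg_left, h1, neg_zero], g⁻¹, M.inv_mem hg, fun x => ?_⟩
  apply GL_mulVec_injective g
  beta_reduce
  rw [GL_mulVec_inv_mulVec]
  simp only [hg', h.add_left, h.neg_left, h.neg_right, h.smul_left, h1,
    h.alt, h.map_eq_zero.1 h1]
  module

theorem div (h : Alt f) (he : Ei M f u z c) (he' : Ei M f u z' c') :
    Ei M f u (z - z') (c - c' - f z' z) := by
  simpa [sub_eq_add_neg, h.neg_left] using he.mul h (he'.inv h)

theorem conj {g : GL ι F} (he : Ei M f u z c) (hg : g ∈ M) (hi : g ∈ Asch.iso f) :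
    Ei M f (g.1 *ᵥ u) (g.1 *ᵥ z) c := by
  obtain ⟨h1, k, hk, hk'⟩ := he
  refine ⟨by rw [hi, h1], g * k * g⁻¹, M.mul_mem (M.mul_mem hg hk) (M.inv_mem hg), fun x => ?_⟩
  obtain ⟨x, rfl⟩ : ∃ x', x = g.1 *ᵥ x' := ⟨_, (GL_mulVec_inv_mulVec _ x).symm⟩
  rw [GL_mul_mulVec, GL_mul_mulVec, GL_inv_mulVec_mulVec, hk', hi, hi, mulVec_add, mulVec_add,
    mulVec_smul, mulVec_smul]

theorem exists_iso (h : Alt f) (he : Ei M f u z c) : ∃ g ∈ M, g ∈ Asch.iso f ∧
    ∀ x, g.1 *ᵥ x = x + f x u • z + (f x z + c * f x u) • u := by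
  obtain ⟨h1, g, hg, hg'⟩ := he
  obtain ⟨-, k, hk, hk'⟩ := iso h h1 c
  obtain rfl : g = k := GL_ext_mulVec fun x => by rw [hg', hk']
  exact ⟨g, hg, hk, hg'⟩

theorem zero (h : Alt f) (M : Subgroup (GL ι F)) (u : ι → F) : Ei M f u 0 0 :=
  ⟨h.zero_left u, 1, M.one_mem, fun x => by simp [h.zero_right]⟩

theorem zero_left (h : Alt f) (M : Subgroup (GL ι F)) (z : ι → F) (c : F) : Ei M f 0 z c :=
  ⟨h.zero_right z, 1, M.one_mem, fun x => by simp [h.zero_right]⟩

theorem add_smul (h : Alt f) (he : Ei M f u z c) (a : F) : Ei M f u (z + a • u) (c - 2 * a) :=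
  he.congr (by rw [h.add_left, h.smul_left, he.1, h.alt, mul_zero, add_zero]) fun x => by
    simp only [h.add_right, h.smul_right']
    module

theorem of_smul (h : Alt f) {a : F} (he : Ei M f (a • u) z c) (hz : f z u = 0) :
    Ei M f u (a • z) (a ^ 2 * c) :=
  he.congr (by rw [h.smul_left, hz, mul_zero]) fun x => by
    simp only [h.smul_right']
    module

theorem smul (h : Alt f) {a : F} (he : Ei M f u (a • z) (a ^ 2 * c)) (hz : f z u = 0) :
    Ei M f (a • u) z c :=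
  he.congr (by rw [h.smul_right', hz, mul_zero]) fun x => by
    simp only [h.smul_right']
    module

theorem symm (h : Alt f) (he : Ei M f u z 0) : Ei M f z u 0 :=
  he.congr (h.map_eq_zero.1 he.1) fun x => by module

/-- `t(u + v, c) = E(u, c v, c) t(v, c)`. -/
theorem of_add (h : Alt f) (huv : f v u = 0) (h1 : Ei M f (u + v) 0 c) (h2 : Ei M f v 0 c) :
    Ei M f u (c • v) c := by
  obtain ⟨-, g, hg, hg'⟩ := h1
  obtain ⟨-, k, hk, hk'⟩ := h2.inv h
  refine ⟨by rw [h.smul_left, huv, mul_zero], g * k, M.mul_mem hg hk, fun x => ?_⟩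
  simp only [GL_mul_mulVec, hg', hk', h.add_left, h.add_right, h.smul_left, h.smul_right', huv,
    h.alt, neg_zero, h.zero_right, h.zero_left]
  module

theorem add (h : Alt f) (huv : f v u = 0) (h1 : Ei M f u (c • v) c) (h2 : Ei M f v 0 c) :
    Ei M f (u + v) 0 c := by
  obtain ⟨-, g, hg, hg'⟩ := h1
  obtain ⟨-, k, hk, hk'⟩ := h2
  refine ⟨h.zero_left _, g * k, M.mul_mem hg hk, fun x => ?_⟩
  simp only [GL_mul_mulVec, hg', hk', h.add_left, h.add_right, h.smul_left, h.smul_right', huv,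
    h.alt, h.zero_right, h.zero_left]
  module

theorem tv (h : Alt f) (he : Ei M f u 0 c) : Tv M u (c • dv (RingHom.id F) f u) := by
  obtain ⟨-, g, hg, hg'⟩ := he
  exact Tv.of_mulVec hg (by simp [dv_dot h.toSForm, h.alt]) fun x => by
    simp [hg', dv_dot h.toSForm, h.zero_right]

end Ei

theorem Alt.iso_le (h : Alt f) (hM : ∀ v c, Ei M f v 0 c) : iso f ≤ M := fun g hg => by
  obtain ⟨e, he⟩ := exists_linearEquiv_of_GL g
  have h1 : e ∈ Subgroup.closure (transvs h.isAlt) := by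
    rw [closure_transvs h.isAlt h.nondegenerate]
    exact fun u v => by rw [he, he]; exact hg u v
  suffices ∃ k ∈ M, ∀ x, k.1 *ᵥ x = e x by
    obtain ⟨k, hk, hk'⟩ := this
    rwa [← GL_ext_mulVec fun x => (hk' x).trans (he x)]
  clear he
  induction h1 using Subgroup.closure_induction with
  | mem e he =>
    obtain ⟨v, c, rfl⟩ := he
    obtain ⟨-, k, hk, hk'⟩ := hM v c
    exact ⟨k, hk, fun x => by simp [hk', transv_apply, h.zero_right]⟩
  | one => exact ⟨1, M.one_mem, fun x => by simp⟩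
  | mul e e' _ _ h1 h2 =>
    obtain ⟨k, hk, hk'⟩ := h1
    obtain ⟨l, hl, hl'⟩ := h2
    exact ⟨k * l, M.mul_mem hk hl, fun x => by rw [GL_mul_mulVec, hk', hl']; rfl⟩
  | inv e _ h1 =>
    obtain ⟨k, hk, hk'⟩ := h1
    refine ⟨k⁻¹, M.inv_mem hk, fun x => GL_mulVec_injective k ?_⟩
    beta_reduce
    rw [GL_mulVec_inv_mulVec, hk']
    simp

/-- The centres of the long root subgroups contained in `M`. -/
def Lr (M : Subgroup (GL ι F)) (f : (ι → F) → (ι → F) → F) (v : ι → F) : Prop :=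
  ∀ c, Ei M f v 0 c

namespace Lr

variable {u v : ι → F}

theorem zero (h : Alt f) : Lr M f 0 := fun c => Ei.zero_left h M 0 c

theorem smul (h : Alt f) (hv : Lr M f v) (a : F) : Lr M f (a • v) := fun c =>
  Ei.smul h (by simpa using hv _) (h.zero_left _)

theorem conj {g : GL ι F} (hv : Lr M f v) (hg : g ∈ M) (hi : g ∈ iso f) :
    Lr M f (g.1 *ᵥ v) := fun c => by simpa using (hv c).conj hg hi

theorem add_smul (h : Alt f) (hu : Lr M f u) (hv : Lr M f v) (huv : f u v ≠ 0) (a : F) :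
    Lr M f (u + a • v) := by
  obtain ⟨g, hg, hi, hg'⟩ := (hv (a / f u v)).exists_iso h
  have := hu.conj hg hi
  rwa [hg', smul_zero, add_zero, h.zero_right, zero_add, div_mul_cancel₀ _ huv] at this

theorem add (h : Alt f) (hu : Lr M f u) (hv : Lr M f v) (huv : f u v ≠ 0) : Lr M f (u + v) := by
  simpa using hu.add_smul h hv huv 1

theorem of_forall (h : Alt f) (hM : ∀ c, ∀ g ∈ iso f,
    (∀ x, g.1 *ᵥ x = x + (c * f x v) • v) → g ∈ M) : Lr M f v := fun c =>
  Ei.of_forall h (h.zero_left v) fun g hg hg' => hM c g hg fun x => by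
    simp [hg', h.zero_right]

end Lr

/-- The hypothesis of McLaughlin's argument: the form has rank at least two on `W` and the field
has more than two elements, or the rank is at least three. -/
def Big (f : (ι → F) → (ι → F) → F) (W : Submodule F (ι → F)) : Prop :=
  ((∃ a : F, a ≠ 0 ∧ a ≠ 1) ∧ ∃ w ∈ W, ∃ x ∈ W, f x w ≠ 0) ∨
    ∃ w ∈ W, ∃ w' ∈ W, f w' w = 0 ∧ (∃ x ∈ W, f x w ≠ 0) ∧ (∃ x ∈ W, f x w' ≠ 0) ∧
      ∃ x ∈ W, f x (w + w') ≠ 0

theorem Big.mono {W W' : Submodule F (ι → F)} (hb : Big f W) (hW : W ≤ W') : Big f W' := by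
  rcases hb with ⟨ha, w, hw, x, hx, h⟩ | ⟨w, hw, w', hw', h0, ⟨x, hx, h1⟩, ⟨y, hy, h2⟩, z, hz, h3⟩
  · exact Or.inl ⟨ha, w, hW hw, x, hW hx, h⟩
  · exact Or.inr ⟨w, hW hw, w', hW hw', h0, ⟨x, hW hx, h1⟩, ⟨y, hW hy, h2⟩, z, hW hz, h3⟩

theorem Big.exists_ne {W : Submodule F (ι → F)} (hb : Big f W) : ∃ w ∈ W, ∃ x ∈ W, f x w ≠ 0 := by
  rcases hb with ⟨-, h⟩ | ⟨w, hw, -, -, -, h, -⟩
  exacts [h, ⟨w, hw, h⟩]

theorem Alt.big_of_nondeg (h : Alt f) {W : Submodule F (ι → F)} (hW : IsNondegenerateOn f W)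
    (hd : ((∃ a : F, a ≠ 0 ∧ a ≠ 1) ∧ W ≠ ⊥) ∨ 3 ≤ finrank F W) : Big f W := by
  rcases hd with ⟨ha, h0⟩ | h3
  · obtain ⟨w, hw, hw0⟩ := (Submodule.ne_bot_iff W).1 h0
    exact Or.inl ⟨ha, w, hw, (hW w hw hw0).1⟩
  · obtain ⟨w, hw, hw0⟩ := (Submodule.ne_bot_iff W).1 (by rintro rfl; simp at h3)
    have h1 := finrank_le_inf_dotKer W (dv (RingHom.id F) f w)
    have h2 := finrank_span_singleton_le (F := F) w
    obtain ⟨w', ⟨hw', h4⟩, h5⟩ := exists_mem_notMem_of_finrank_lt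
      (W := W ⊓ dotKer (dv (RingHom.id F) f w)) (U := Submodule.span F {w}) (by omega)
    refine Or.inr ⟨w, hw, w', hw', by rwa [← dv_dot h.toSForm], (hW w hw hw0).1,
      (hW w' hw' fun h0 => h5 (h0 ▸ Submodule.zero_mem _)).1,
      (hW _ (W.add_mem hw hw') fun h0 => h5 ?_).1⟩
    rw [eq_neg_of_add_eq_zero_right h0]
    exact Submodule.neg_mem _ (Submodule.mem_span_singleton_self w)

theorem exists_ne_ne (h : Alt f) {W : Submodule F (ι → F)} {x y : ι → F}
    (hx : ∃ w ∈ W, f w x ≠ 0) (hy : ∃ w ∈ W, f w y ≠ 0) : ∃ w ∈ W, f w x ≠ 0 ∧ f w y ≠ 0 := by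
  obtain ⟨a, ha, hax⟩ := hx
  obtain ⟨b, hb, hby⟩ := hy
  by_cases h1 : f a y = 0
  · by_cases h2 : f b x = 0
    · exact ⟨a + b, W.add_mem ha hb, by simpa [h.add_left, h2] using hax,
        by simpa [h.add_left, h1] using hby⟩
    · exact ⟨b, hb, h2, hby⟩
  · exact ⟨a, ha, hax, h1⟩

/-- McLaughlin's argument. -/
theorem Lr.add_mem (h : Alt f) {W : Submodule F (ι → F)} (hb : Big f W) (hW : ∀ w ∈ W, Lr M f w)
    {x : ι → F} (hx : Lr M f x) (hxW : ∃ w ∈ W, f w x ≠ 0) {w : ι → F} (hw : w ∈ W) :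
    Lr M f (x + w) := by
  have step : ∀ w ∈ W, (∃ w₁ ∈ W, f w₁ (x + w) ≠ 0) → Lr M f (x + w) := by
    intro w hw hw₁
    by_cases h0 : f w x = 0
    · obtain ⟨w₀, hw₀, h1, h2⟩ := exists_ne_ne h hxW hw₁
      have h3 := hx.add h (hW _ (W.add_mem hw hw₀)) (by
        rwa [Ne, h.map_eq_zero, h.add_left, h0, zero_add])
      have h4 := h3.add_smul h (hW _ hw₀) (by
        rwa [Ne, h.map_eq_zero, ← add_assoc, h.add_right, h.alt, add_zero]) (-1)
      simpa [add_assoc] using h4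
    · exact hx.add h (hW w hw) (fun h1 => h0 (h.map_eq_zero.1 h1))
  by_cases hr : ∃ w₁ ∈ W, f w₁ (x + w) ≠ 0
  · exact step w hw hr
  push Not at hr
  set r := x + w with hrdef
  have key : ∀ w' ∈ W, (∃ y ∈ W, f y w' ≠ 0) → ∀ a : F, a ≠ 0 → ∀ s, Ei M f r (s • w') (a * s) := by
    rintro w' hw' ⟨y, hy, hyw⟩ a ha s
    have h1 := (step (w + a⁻¹ • w') (W.add_mem hw (W.smul_mem _ hw')) ⟨y, hy, by
      rw [← add_assoc, h.add_right, hr y hy, zero_add, h.smul_right']
      exact mul_ne_zero (inv_ne_zero ha) hyw⟩).smul h a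
    rw [← add_assoc, smul_add, smul_inv_smul₀ ha] at h1
    have h2 := (Ei.of_add h (by rw [h.smul_right', hr w' hw', mul_zero]) (h1 (s / a))
      (hW w' hw' _)).of_smul h (by rw [h.smul_left, hr w' hw', mul_zero])
    convert h2 using 1
    · rw [smul_smul, mul_div_cancel₀ _ ha]
    · field_simp
  intro c
  rcases hb with ⟨⟨a, ha, ha1⟩, w', hw', hy⟩ | ⟨w', hw', w'', hw'', h0, h1, h2, h3⟩
  · have := (key w' hw' hy a ha (c / (a - 1))).div h (key w' hw' hy 1 one_ne_zero (c / (a - 1)))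
    convert this using 1
    · rw [sub_self]
    · rw [h.alt]
      have := sub_ne_zero.2 ha1
      field_simp
      ring
  · have := ((key w' hw' h1 1 one_ne_zero c).mul h (key w'' hw'' h2 1 one_ne_zero c)).div h
      (key _ (W.add_mem hw' hw'') h3 1 one_ne_zero c)
    convert this using 1
    · rw [smul_add, sub_self]
    · rw [smul_add, h.alt, h.smul_left, h.smul_right', h0]
      ring

/-- The long root centres lie in `X` or its perpendicular, for a maximal subspace `X` of centres. -/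
theorem exists_max_lr [Finite F] (h : Alt f) {W : Submodule F (ι → F)} (hb : Big f W)
    (hW : ∀ w ∈ W, Lr M f w) : ∃ X : Submodule F (ι → F), W ≤ X ∧ (∀ w ∈ X, Lr M f w) ∧
      ∀ x, Lr M f x → x ∈ X ∨ ∀ w ∈ X, f w x = 0 := by
  obtain ⟨X, hWX, hX⟩ := Finite.exists_le_maximal
    (p := fun X : Submodule F (ι → F) => ∀ w ∈ X, Lr M f w) hW
  refine ⟨X, hWX, hX.prop, fun x hx => ?_⟩
  by_contra! hc
  refine hc.1 (hX.le_of_ge (y := X ⊔ Submodule.span F {x}) (fun y hy => ?_) le_sup_left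
    (Submodule.mem_sup_right (Submodule.mem_span_singleton_self x)))
  obtain ⟨w, hw, y, hy', rfl⟩ := Submodule.mem_sup.1 hy
  obtain ⟨a, rfl⟩ := Submodule.mem_span_singleton.1 hy'
  by_cases ha : a = 0
  · simpa [ha] using hX.prop w hw
  · have := (Lr.add_mem h (hb.mono hWX) hX.prop hx hc.2 (X.smul_mem a⁻¹ hw)).smul h a
    rwa [smul_add, smul_inv_smul₀ ha, add_comm] at this

theorem le_or_le_perp (h : Alt f) {X U : Submodule F (ι → F)}
    (hU : ∀ x ∈ U, x ∈ X ∨ ∀ w ∈ X, f w x = 0) : U ≤ X ∨ ∀ x ∈ U, ∀ w ∈ X, f w x = 0 := by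
  by_contra! hc
  obtain ⟨h1, y, hy, w, hw, hwy⟩ := hc
  obtain ⟨x, hx, hxX⟩ := Set.not_subset.1 h1
  have hyX : y ∈ X := (hU y hy).resolve_right fun h2 => hwy (h2 w hw)
  have hx' := (hU x hx).resolve_left hxX
  rcases hU _ (U.add_mem hx hy) with h2 | h2
  · exact hxX (by simpa using X.sub_mem h2 hyX)
  · exact hwy (by simpa [h.add_right, hx' w hw] using h2 w hw)

/-- If `M` contains the unipotent radical of the stabiliser of `w` and a long root subgroup not
commuting with it, then `M` is everything. -/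
theorem Alt.iso_le_of_full (h : Alt f) {w x : ι → F} (hw : ∀ z c, f z w = 0 → Ei M f w z c)
    (hx : Lr M f x) (hxw : f x w ≠ 0) : iso f ≤ M := by
  have step : ∀ w x, (∀ z c, f z w = 0 → Ei M f w z c) → Lr M f x → f x w ≠ 0 →
      ∀ y, f y w ≠ 0 → Lr M f y := by
    intro w x hw hx hxw y hy
    obtain ⟨g, hg, hi, hg'⟩ := (hw ((f y w)⁻¹ • y - (f x w)⁻¹ • x)
      (-(f x ((f y w)⁻¹ • y - (f x w)⁻¹ • x) / f x w)) (by
        rw [h.sub_left, h.smul_left, h.smul_left, inv_mul_cancel₀ hy, inv_mul_cancel₀ hxw,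
          sub_self])).exists_iso h
    have h1 := (hx.conj hg hi).smul h (f y w / f x w)
    rw [hg', neg_mul, div_mul_cancel₀ _ hxw, add_neg_cancel, zero_smul, add_zero, smul_sub,
      smul_inv_smul₀ hxw, add_sub_cancel, smul_smul, smul_smul] at h1
    convert h1
    field_simp
    simp
  have hw0 : w ≠ 0 := fun h0 => hxw (by rw [h0, h.zero_right])
  refine h.iso_le fun y => ?_
  by_cases hy : f y w = 0
  swap
  · exact step w x hw hx hxw y hy
  by_cases hy0 : y = 0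
  · subst hy0
    exact Lr.zero h
  obtain ⟨y', -, h1, h2⟩ := exists_ne_ne h (W := ⊤)
    ((exists_form_ne_zero h.toSForm hw0).imp fun _ h => ⟨trivial, h⟩)
    ((exists_form_ne_zero h.toSForm hy0).imp fun _ h => ⟨trivial, h⟩)
  obtain ⟨g, hg, hi, hg'⟩ := (step w x hw hx hxw y' h1 1).exists_iso h
  have h3 : f w y' ≠ 0 := fun h0 => h1 (h.map_eq_zero.1 h0)
  have h4 : g.1 *ᵥ w = w + f w y' • y' := by simp [hg', h.zero_right]
  refine step (g.1 *ᵥ w) w (fun z c hz => ?_) (fun c => hw 0 c (h.zero_left w)) ?_ y ?_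
  · have := (hw ((g⁻¹).1 *ᵥ z) c (by rw [← hi, GL_mulVec_inv_mulVec, hz])).conj hg hi
    rwa [GL_mulVec_inv_mulVec] at this
  · rw [h4, h.add_right, h.alt, zero_add, h.smul_right']
    exact mul_ne_zero h3 h3
  · rw [h4, h.add_right, hy, zero_add, h.smul_right']
    exact mul_ne_zero h3 fun h0 => h2 (h.map_eq_zero.1 h0)

end Cfsg.Lib.Symp
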