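import Cfsg.Agent.Lib.Symp.KForm

/-!
# Symplectic extension field subgroups are maximal in the symplectic group
-/

set_option linter.unusedSectionVars false

namespace Cfsg.Lib.Symp

open Matrix Module Cfsg.Geo Cfsg.Lib.Asch Cfsg.Lib.Linear
open scoped MatrixGroups

theorem mul_mul_mem_of_inv_mem {K : Type*} [Field K] {S : AddSubgroup K}
    (h : ∀ x ∈ S, x⁻¹ ∈ S) {x y : K} (hx : x ∈ S) (hy : y ∈ S) : x * x * y ∈ S := by
  rcases eq_or_ne x 0 with rfl | h0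
  · simp
  rcases eq_or_ne y 0 with rfl | h1
  · simp
  rcases eq_or_ne (1 - x * y) 0 with h2 | h2
  · rwa [mul_assoc, ← sub_eq_zero.1 h2, mul_one]
  have h3 : y⁻¹ - x = (1 - x * y) / y := by field_simp
  have h4 : x⁻¹ + (y⁻¹ - x)⁻¹ = (x * (1 - x * y))⁻¹ := by
    rw [h3]
    field_simp
    ring
  have := sub_mem hx (h _ (add_mem (h x hx) (h _ (sub_mem (h y hy) hx))))
  rw [h4, inv_inv] at this
  convert this using 1
  ring

variable {ι : Type} [Fintype ι] [DecidableEq ι] {F : Type*} [Field F] {K : Type*} [Field K]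
  [Algebra F K] [Module K (ι → F)] [IsScalarTower F K (ι → F)]
  {f : (ι → F) → (ι → F) → F} {M : Subgroup (GL ι F)}

/-- The product of the transvections with centres `x` and `y` lies in `M`. -/
def Tt (M : Subgroup (GL ι F)) (f : (ι → F) → (ι → F) → F) (x y : ι → F) : Prop :=
  ∃ s t : GL ι F, (∀ v, s.1 *ᵥ v = v + f v x • x) ∧ (∀ v, t.1 *ᵥ v = v + f v y • y) ∧ s * t ∈ M

theorem Tt.conj {x y : ι → F} (h : Tt M f x y) {g : GL ι F} (hg : g ∈ M) (hi : g ∈ iso f) :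
    Tt M f (g.1 *ᵥ x) (g.1 *ᵥ y) := by
  obtain ⟨s, t, hs, ht, h1⟩ := h
  refine ⟨g * s * g⁻¹, g * t * g⁻¹, fun v => ?_, fun v => ?_, ?_⟩
  · rw [GL_mul_mulVec, GL_mul_mulVec, hs, mulVec_add, mulVec_smul, ← hi, GL_mulVec_inv_mulVec]
  · rw [GL_mul_mulVec, GL_mul_mulVec, ht, mulVec_add, mulVec_smul, ← hi, GL_mulVec_inv_mulVec]
  · convert mul_mem (mul_mem hg h1) (inv_mem hg) using 1
    group

theorem Tt.trans (h : Alt f) (h2 : (1 : F) + 1 = 0) {x y z : ι → F} (h1 : Tt M f x y)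
    (h1' : Tt M f x z) : Tt M f y z := by
  obtain ⟨s, t, hs, ht, h3⟩ := h1
  obtain ⟨s', t', hs', ht', h4⟩ := h1'
  obtain rfl : s = s' := GL_ext_mulVec fun v => by rw [hs, hs']
  refine ⟨t⁻¹, t', fun v => GL_mulVec_injective t ?_, ht', ?_⟩
  · simp only
    rw [GL_mulVec_inv_mulVec, ht, h.add_left, h.smul_left, h.alt, mul_zero, add_zero, add_assoc,
      ← add_smul, ← mul_one (f v y), ← mul_add, h2, mul_zero, zero_smul, add_zero]
  · convert mul_mem (inv_mem h3) h4 using 1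
    group

theorem Tt.mem_unA (h : Alt f) {U : Submodule F (ι → F)} (hU : ∀ x ∈ U, ∀ y ∈ U, f x y = 0)
    {x y : ι → F} (hx : x ∈ U) (hy : y ∈ U) (h1 : Tt M f x y) :
    h.ew x 0 1 + h.ew y 0 1 ∈ unA M U := by
  obtain ⟨s, t, hs, ht, h3⟩ := h1
  refine ⟨fun v => ?_, fun v hv => ?_, _, h3, fun v => ?_⟩
  · simpa [h.ew_apply, h.zero_right] using add_mem (U.smul_mem _ hx) (U.smul_mem _ hy)
  · simp [h.ew_apply, h.zero_right, hU v hv x hx, hU v hv y hy]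
  · rw [GL_mul_mulVec, hs, ht, h.add_left, h.smul_left, hU y hy x hx]
    simp only [LinearMap.add_apply, h.ew_apply, h.zero_right]
    module

namespace KAlt

variable {τ : K →ₗ[F] F} {B : (ι → F) →ₗ[K] (ι → F) →ₗ[K] K} {u : ι → F}

theorem exists_tv (h : KAlt f τ B) (hr : (finrank F K).Prime) (hM : semiGL K ⊓ iso f ≤ M)
    (hex : ∃ g ∈ M, (∃ d ∈ kPt K u, d ≠ 0 ∧ g.1 *ᵥ d ∈ kPt K u) ∧
      ∃ x ∈ kPt K u, g.1 *ᵥ x ∉ kPt K u) :
    ∃ θ x₀ d : ι → F, x₀ ∈ kPt K u ∧ θ ⬝ᵥ x₀ = 1 ∧ d ∈ kPt K u ∧ d ≠ 0 ∧ θ ⬝ᵥ d = 0 ∧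
      ∀ c : F, ∃ z ∈ M, ∀ x ∈ kPt K u, z.1 *ᵥ x = x + (θ ⬝ᵥ x) • c • d := by
  obtain ⟨g, hg, ⟨d, hd, hd0, hd'⟩, ⟨x₀, hx₀, hx₀'⟩, hmax⟩ := exists_max_inter hex
  by_cases h1 : ∀ x ∈ kPt K u, B (g.1 *ᵥ x) u = 0
  · obtain ⟨θ, h2, h3, h4⟩ := exists_tv_of_max hr hg hd hd0 hd' hx₀ hx₀' hmax fun ψ hψ => by
      obtain ⟨z, hz⟩ := h.exists_eq ψ
      obtain ⟨s, hs, h2⟩ := h.exists_eich (u := u) (z := z) (by rw [h.kskew, hz, hψ, neg_zero]) 0
      exact ⟨s, hM hs.mem, fun x hx => by simp [h2, h1 x hx, hz]⟩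
    exact ⟨θ, x₀, d, hx₀, h2, hd, hd0, h3, h4⟩
  push Not at h1
  obtain ⟨x₁, hx₁, h1⟩ := h1
  have h2 : ∀ δ ∈ coefSub K g u, ∃ s ∈ M,
      (∀ x, s.1 *ᵥ x = x + (B x u / B (g.1 *ᵥ x₁) u * δ) • u) ∧
      ∀ x ∈ kPt K u, B (g.1 *ᵥ x) u / B (g.1 *ᵥ x₁) u * δ ∈ coefSub K g u := fun δ hδ => by
    obtain ⟨s, hs, h2⟩ := h.exists_eich (u := u) (z := 0) (by simp) (δ / B (g.1 *ᵥ x₁) u)
    replace h2 : ∀ x, s.1 *ᵥ x = x + (B x u / B (g.1 *ᵥ x₁) u * δ) • u := fun x => by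
      rw [h2, smul_zero, add_zero, map_zero, zero_add]
      congr 2
      ring
    refine ⟨s, hM hs.mem, h2, fun x hx => ?_⟩
    obtain ⟨e, he, h3⟩ := mem_coefSub.1 hδ
    obtain ⟨y, hy, h4⟩ := hmax s (hM hs.mem)
      (fun x _ hx' => by rw [h2, h.eq_zero_of_mem hx']; simp) x₁ hx₁
      (fun h0 => h1 (h.eq_zero_of_mem h0))
      ⟨x₁ + e, add_mem hx₁ he, by rw [h2, div_self h1, one_mul, mulVec_add, h3]⟩ x hx
    exact mem_coefSub.2 ⟨y - x, sub_mem hy hx, by rw [mulVec_sub, ← h4, h2, add_sub_cancel_left]⟩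
  obtain ⟨θ, hθ⟩ := exists_dot_eq (τ ∘ₗ (((B (g.1 *ᵥ x₁) u)⁻¹ • B.flip u).restrictScalars F) ∘ₗ
    mulVecLin g.1)
  replace hθ : ∀ x, θ ⬝ᵥ x = τ (B (g.1 *ᵥ x) u / B (g.1 *ᵥ x₁) u) := fun x => by
    rw [hθ, div_eq_inv_mul]; rfl
  have h3 : ∀ x ∈ kPt K u, algebraMap F K (θ ⬝ᵥ x) = B (g.1 *ᵥ x) u / B (g.1 *ᵥ x₁) u :=
    fun x hx => by
      obtain ⟨c, hc⟩ := mem_range_of_mul_mem hr (coefSub_ne_bot hd hd0 hd')
        (coefSub_ne_top hx₀ hx₀') fun δ hδ => (h2 δ hδ).choose_spec.2.2 x hx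
      rw [hθ, ← hc, Algebra.algebraMap_eq_smul_one c, map_smul, h.one, smul_eq_mul, mul_one,
        Algebra.algebraMap_eq_smul_one c]
  refine ⟨θ, x₁, d, hx₁, by rw [hθ, div_self h1, h.one], hd, hd0,
    by rw [hθ, h.eq_zero_of_mem hd', zero_div, map_zero], fun c => ?_⟩
  obtain ⟨δ, hδ⟩ := mem_kPt.1 (Submodule.smul_mem _ c hd')
  obtain ⟨s, hs, h4, -⟩ := h2 δ ⟨c • d, Submodule.smul_mem _ c hd, by
    rw [toLin'_apply, mulVec_smul, ← hδ]; rfl⟩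
  refine ⟨g⁻¹ * s * g, mul_mem (mul_mem (inv_mem hg) hs) hg, fun x hx => ?_⟩
  rw [GL_mul_mulVec, GL_mul_mulVec, h4, ← h3 x hx, mul_smul, hδ, algebraMap_smul, ← mulVec_smul,
    ← mulVec_smul, ← mulVec_add, GL_inv_mulVec_mulVec]

theorem lr_of_tv (h : KAlt f τ B) (hr : (finrank F K).Prime) (hM : semiGL K ⊓ iso f ≤ M)
    (hMi : M ≤ iso f) (hq : (∃ a : F, a ≠ 0 ∧ a ≠ 1) ∨ 3 ≤ finrank F K) {θ x₀ d : ι → F}
    (hx₀ : x₀ ∈ kPt K u) (h1 : θ ⬝ᵥ x₀ = 1) (hd : d ∈ kPt K u) (hd0 : d ≠ 0) (h2 : θ ⬝ᵥ d = 0)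
    (h3 : ∀ c : F, ∃ z ∈ M, ∀ x ∈ kPt K u, z.1 *ᵥ x = x + (θ ⬝ᵥ x) • c • d) : Lr M f d := by
  rw [← kPt_eq_of_mem hd hd0] at hx₀ h3
  obtain ⟨a, ha⟩ := exists_form_eq h.toSForm (-θ)
  replace ha : ∀ x, f a x = θ ⬝ᵥ x := fun x => by rw [h.skew, ha, neg_dotProduct, neg_neg]
  have hP := fun x hx y hy => h.f_eq_zero_of_mem (u := d) (x := x) (y := y) hx hy
  have h4 : B a d ≠ 0 := fun h0 => by
    obtain ⟨κ, rfl⟩ := mem_kPt.1 hx₀
    rw [← ha, h.eq, map_smul, h0, smul_zero, map_zero] at h1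
    exact zero_ne_one h1
  have h5 : ∀ c : F, ∀ e ∈ kPt K d, Ei M f d (c • e) (c ^ 2 * θ ⬝ᵥ e) := fun c e he => by
    obtain ⟨κ, rfl⟩ := mem_kPt.1 he
    obtain ⟨z, hz, h5⟩ := h3 c
    obtain ⟨s, hs, h6⟩ := h.exists_eich (u := d) (z := 0) (by simp) (κ / B a d)
    have h7 := ei_of_tv_on h.toAlt hMi hP (Y := kt ((κ / B a d) • B.flip d) d)
      ⟨fun x => smul_mem_kPt _ _, fun x hx => by simp [h.eq_zero_of_mem hx], s, hM hs.mem,
        fun x => by simp [h6]⟩ (Submodule.smul_mem _ c (self_mem_kPt d)) hz (a := a)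
      fun x hx => by rw [h5 x hx, ha]
    rw [show kt ((κ / B a d) • B.flip d) d a = κ • d by simp [h4], ha] at h7
    exact h7.of_smul h.toAlt (hP _ he _ (self_mem_kPt d))
  by_cases hq' : ∃ a : F, a ≠ 0 ∧ a ≠ 1
  · obtain ⟨α, hα, hα'⟩ := hq'
    intro c
    have h6 : α ^ 2 - α ≠ 0 := by
      rw [pow_two, ← mul_sub_one]
      exact mul_ne_zero hα (sub_ne_zero.2 hα')
    have h7 := (h5 α _ (Submodule.smul_mem _ (c / (α ^ 2 - α)) hx₀)).div h.toAlt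
      (h5 1 _ (Submodule.smul_mem _ (α * (c / (α ^ 2 - α))) hx₀))
    rw [one_smul, smul_smul, sub_self, h.alt, dotProduct_smul, dotProduct_smul, h1] at h7
    convert h7 using 1
    simp only [smul_eq_mul]
    field_simp
    ring
  replace hq := hq.resolve_left hq'
  push Not at hq'
  replace hq' : ∀ a : F, a = 0 ∨ a = 1 := fun a => or_iff_not_imp_left.2 (hq' a)
  by_contra hL
  have h6 : ∀ κ : K, θ ⬝ᵥ (κ • d) = 0 ↔ Ei M f d (κ • d) 0 := fun κ => by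
    have h6 := h5 1 _ (smul_mem_kPt κ d)
    rw [one_smul, one_pow, one_mul] at h6
    refine ⟨fun h0 => h0 ▸ h6, fun h7 => (hq' _).resolve_right fun h8 => hL fun c => ?_⟩
    rcases hq' c with rfl | rfl
    · exact Ei.zero h.toAlt M d
    · simpa [h8, h.alt] using h6.div h.toAlt h7
  let S : Submodule F K := LinearMap.ker (dotProductBilin F F θ ∘ₗ
    (LinearMap.toSpanSingleton K _ d).restrictScalars F)
  have hS : ∀ κ, κ ∈ S ↔ θ ⬝ᵥ (κ • d) = 0 := fun κ => Iff.rfl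
  have h7 : ∀ κ ∈ S.toAddSubgroup, κ⁻¹ ∈ S.toAddSubgroup := fun κ hκ => by
    rcases eq_or_ne κ 0 with rfl | h0
    · simp
    obtain ⟨g, hg, h7⟩ := h.exists_map hd0 (smul_ne_zero (inv_ne_zero h0) hd0)
    have h8 := ((h6 κ).1 hκ).conj (hM hg.mem) hg.1
    rw [hg.2, h7, smul_inv_smul₀ h0] at h8
    exact (h6 _).2 (h8.symm h.toAlt)
  have h8 : (1 : K) ∈ S := by rw [hS, one_smul, h2]
  have : Module.Finite F K := Module.finite_of_finrank_pos (by omega)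
  have h9 : S ≤ Submodule.span F {1} := fun κ hκ => by
    obtain ⟨c, hc⟩ := mem_range_of_mul_mem hr ((Submodule.ne_bot_iff _).2 ⟨1, h8, one_ne_zero⟩)
      (fun h0 => by
        obtain ⟨κ, rfl⟩ := mem_kPt.1 hx₀
        exact zero_ne_one (((hS κ).1 (h0 ▸ Submodule.mem_top)).symm.trans h1))
      fun δ hδ => mul_mul_mem_of_inv_mem h7 hκ hδ
    rcases hq' c with rfl | rfl
    · rw [map_zero, eq_comm, mul_self_eq_zero] at hc
      exact hc ▸ zero_mem _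
    · rw [map_one, eq_comm, mul_self_eq_one_iff] at hc
      rcases hc with rfl | rfl
      · exact Submodule.mem_span_singleton_self _
      · exact neg_mem (Submodule.mem_span_singleton_self _)
  have h10 := Submodule.finrank_mono h9
  have h11 := finrank_span_singleton_le (F := F) (1 : K)
  have h12 := LinearMap.finrank_range_add_finrank_ker (dotProductBilin F F θ ∘ₗ
    (LinearMap.toSpanSingleton K _ d).restrictScalars F)
  have h13 := Submodule.finrank_le (LinearMap.range (dotProductBilin F F θ ∘ₗ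
    (LinearMap.toSpanSingleton K _ d).restrictScalars F))
  rw [Module.finrank_self] at h13
  change _ + finrank F S = _ at h12
  omega

theorem exists_lr_of_two (h : KAlt f τ B) (hq : ∀ a : F, a = 0 ∨ a = 1) (hr : finrank F K = 2)
    (hn : 4 < Fintype.card ι) (hM : semiGL K ⊓ iso f ≤ M) (hMi : M ≤ iso f) {g : GL ι F}
    (hg : g ∈ M) {d₀ x₀ : ι → F} (hd₀ : d₀ ∈ kPt K u) (hd₀0 : d₀ ≠ 0) (hd : g.1 *ᵥ d₀ ∈ kPt K u)
    (hx₀ : x₀ ∈ kPt K u) (hX : g.1 *ᵥ x₀ ∉ kPt K u) : ∃ v, v ≠ 0 ∧ Lr M f v := by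
  have h2 : (1 : F) + 1 = 0 := (hq _).resolve_right (by simp)
  have h2K : (1 : K) + 1 = 0 := by simpa using congrArg (algebraMap F K) h2
  have h2V : ∀ x : ι → F, x + x = 0 := fun x => by rw [← one_smul F x, ← add_smul, h2, zero_smul]
  rw [← kPt_eq_of_mem hd₀ hd₀0] at hd hX hx₀
  obtain ⟨ω, rfl⟩ := mem_kPt.1 hx₀
  have hω : ∀ c : F, algebraMap F K c ≠ ω := fun c hc => hX (by
    rw [← hc, algebraMap_smul, mulVec_smul]; exact Submodule.smul_mem _ _ hd)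
  have hω0 : ω ≠ 0 := fun h => hω 0 (by simp [h])
  have hω2 : ω * ω = 1 + ω := by
    obtain ⟨a, b, h⟩ := exists_add_smul_of_finrank_two hr hω (ω * ω)
    rcases hq a with rfl | rfl
    · rw [map_zero, zero_add, Algebra.smul_def] at h
      exact (hω b (mul_right_cancel₀ hω0 h).symm).elim
    rcases hq b with rfl | rfl
    · refine (hω 1 ?_).elim
      have : (ω - 1) ^ 2 = 0 := by
        simp only [map_one, zero_smul, add_zero] at h
        linear_combination h + (1 - ω) * h2K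
      rw [map_one, sub_eq_zero.1 (pow_eq_zero_iff two_ne_zero |>.1 this)]
    · simpa using h
  have h1 : ∀ a, Tt M f a (ω • a) := fun a => by
    obtain ⟨s, hs, hs'⟩ := h.exists_st a 1
    obtain ⟨t, ht, ht'⟩ := h.exists_st (ω • a) 1
    simp only [one_mul] at hs' ht'
    have h3 : ∀ x, (s * t).1 *ᵥ x = x + f x a • a + f x (ω • a) • ω • a := fun x => by
      rw [GL_mul_mulVec, hs', ht', h.add_left, h.smul_left,
        h.f_eq_zero_of_mem (smul_mem_kPt ω a) (self_mem_kPt a)]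
      module
    have h4 : ∀ x, (s * t).1 *ᵥ (ω • x) = ω • (s * t).1 *ᵥ x := fun x => by
      rw [h3, h3, h.smul_comm', h.smul_comm', smul_smul, hω2, add_smul, one_smul, h.add_right,
        smul_add, smul_add, smul_comm ω (f x a), smul_comm ω (f x _), smul_smul ω ω, hω2, add_smul,
        add_smul, one_smul]
      module
    refine ⟨s, t, hs', ht', hM ⟨mem_semiGL_of_linear fun κ x => ?_, mul_mem hs ht⟩⟩
    obtain ⟨a, b, rfl⟩ := exists_add_smul_of_finrank_two hr hω κ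
    rw [add_smul, add_smul, algebraMap_smul, algebraMap_smul, smul_assoc, smul_assoc, mulVec_add,
      mulVec_smul, mulVec_smul, h4]
  have h3 := (h1 d₀).conj hg (hMi hg)
  have hd0 := GL_mulVec_ne_zero g hd₀0
  rw [← kPt_eq_of_mem hd hd0] at hX
  generalize g.1 *ᵥ d₀ = d at h3 hX hd0
  generalize g.1 *ᵥ (ω • d₀) = X at h3 hX
  obtain ⟨w, hw, h4, h5⟩ : ∃ w, w ≠ 0 ∧ B X w = 0 ∧ ∀ v ∈ kPt K w, Tt M f d (X + v) := by
    by_cases h4 : B X d = 0
    · refine ⟨d, hd0, h4, fun v hv => ?_⟩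
      obtain ⟨κ, rfl⟩ := mem_kPt.1 hv
      obtain ⟨ψ, h5, h6⟩ := exists_dual_single (fun a ha => hX (mem_kPt.2 ⟨a, ha⟩)) κ
      obtain ⟨z, hz⟩ := h.exists_eq ψ
      obtain ⟨s, hs, h7⟩ := h.exists_eich (u := d) (z := z) (by rw [h.kskew, hz, h5, neg_zero]) 0
      simpa [h7, h4, hz, h5, h6, h.kalt] using h3.conj (hM hs.mem) hs.1
    · have : Module.Finite K (ι → F) := Module.Finite.of_restrictScalars_finite F K _
      obtain ⟨w, hw, hw0⟩ := exists_mem_notMem_of_finrank_lt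
        (W := LinearMap.ker ((B d).prod (B X))) (U := ⊥) (by
          have h5 := LinearMap.finrank_range_add_finrank_ker ((B d).prod (B X))
          have h6 := Submodule.finrank_le (LinearMap.range ((B d).prod (B X)))
          have h7 := Module.finrank_mul_finrank F K (ι → F)
          rw [Module.finrank_prod, Module.finrank_self] at h6
          rw [Module.finrank_fintype_fun_eq_card, hr] at h7
          rw [finrank_bot]
          omega)
      obtain ⟨h5, h6⟩ := Prod.mk_eq_zero.1 (LinearMap.mem_ker.1 hw)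
      refine ⟨w, hw0, h6, fun v hv => ?_⟩
      obtain ⟨κ, rfl⟩ := mem_kPt.1 hv
      obtain ⟨s, hs, h7⟩ := h.exists_eich (u := d) (z := (κ / B X d) • w)
        (by rw [h.kskew, map_smul, h5]; simp) 0
      have h8 := h3.conj (hM hs.mem) hs.1
      rw [h7, h7, h.kalt, map_smul, map_smul, h5, h6, smul_smul, smul_smul, mul_div_cancel₀ _ h4] at h8
      simpa using h8
  have hU : ∀ x ∈ Submodule.span F {X} ⊔ kPt K w, ∀ y ∈ Submodule.span F {X} ⊔ kPt K w,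
      f x y = 0 := fun x hx y hy => by
    obtain ⟨_, hx1, x, hx2, rfl⟩ := Submodule.mem_sup.1 hx
    obtain ⟨_, hy1, y, hy2, rfl⟩ := Submodule.mem_sup.1 hy
    obtain ⟨a, rfl⟩ := Submodule.mem_span_singleton.1 hx1
    obtain ⟨b, rfl⟩ := Submodule.mem_span_singleton.1 hy1
    obtain ⟨a', rfl⟩ := mem_kPt.1 hx2
    obtain ⟨b', rfl⟩ := mem_kPt.1 hy2
    simp [h.eq, h.kalt, h4, h.kskew w X]
  have h6 : ∀ v ∈ kPt K w, X + v ∈ Submodule.span F {X} ⊔ kPt K w := fun v hv =>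
    Submodule.add_mem_sup (Submodule.mem_span_singleton_self X) hv
  have h7 := fun v hv v' hv' => ((h5 v hv).trans h.toAlt h2 (h5 v' hv')).mem_unA h.toAlt hU
    (h6 v hv) (h6 v' hv')
  have h8 := (h1 (ω • w)).mem_unA h.toAlt hU (Submodule.mem_sup_right (smul_mem_kPt _ _))
    (Submodule.mem_sup_right (smul_mem_kPt' _ (smul_mem_kPt _ _)))
  rw [smul_smul, hω2, add_smul, one_smul] at h8
  have h9 := add_mem (add_mem (h7 0 (zero_mem _) w (self_mem_kPt w))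
    (h7 _ (smul_mem_kPt ω w) _ (add_mem (self_mem_kPt w) (smul_mem_kPt ω w)))) h8
  refine ⟨w, hw, fun c => ?_⟩
  rcases hq c with rfl | rfl
  · exact Ei.zero h.toAlt M w
  refine Ei.of_unA h.toAlt (U := Submodule.span F {X} ⊔ kPt K w) (h.zero_left _) ?_
  convert h9 using 1
  refine LinearMap.ext fun x => ?_
  simp only [LinearMap.add_apply, Alt.ew_apply, h.add_right, h.zero_right, smul_zero, zero_add,
    one_mul, add_zero]
  generalize ω • w = e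
  linear_combination (norm := module) -h2V ((2 * f x X + f x w + f x e) • X) -
    h2V ((f x X + f x w + f x e) • w) - h2V ((f x X + f x w + 2 * f x e) • e) + h2V (f x e • e) -
    h2V (f x e • e)

theorem iso_le (h : KAlt f τ B) [Finite K] (hr : (finrank F K).Prime)
    (hq : ((∃ a : F, a ≠ 0 ∧ a ≠ 1) ∨ 3 ≤ finrank F K) ∨ 4 < Fintype.card ι) [Nonempty ι]
    (hM : semiGL K ⊓ iso f ≤ M) (hMi : M ≤ iso f) {g : GL ι F} (hg : g ∈ M) (hg' : g ∉ semiGL K) :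
    iso f ≤ M := by
  obtain ⟨u, hu⟩ := _root_.exists_ne (0 : ι → F)
  by_cases hex : ∃ g ∈ M, (∃ d ∈ kPt K u, d ≠ 0 ∧ g.1 *ᵥ d ∈ kPt K u) ∧
      ∃ x ∈ kPt K u, g.1 *ᵥ x ∉ kPt K u
  · by_cases hq' : (∃ a : F, a ≠ 0 ∧ a ≠ 1) ∨ 3 ≤ finrank F K
    · obtain ⟨θ, x₀, d, hx₀, h1, hd, hd0, h2, h3⟩ := h.exists_tv hr hM hex
      exact h.iso_le_of_lr hM hd0 (h.lr_of_tv hr hM hMi hq' hx₀ h1 hd hd0 h2 h3)
    replace hq := hq.resolve_left hq'
    push Not at hq'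
    obtain ⟨g, hg, ⟨d, hd, hd0, hd'⟩, x, hx, hx'⟩ := hex
    obtain ⟨v, hv, h1⟩ := h.exists_lr_of_two (fun a => or_iff_not_imp_left.2 (hq'.1 a))
      (by have := hr.two_le; omega) hq hM hMi hg hd hd0 hd' hx hx'
    exact h.iso_le_of_lr hM hv h1
  · refine (hg' (le_semiGL_of_spread h.finrank_lt hu (fun v hv => h.exists_map_kPt hM hu hv)
      (fun g hg d hd hd0 hd' x hx => ?_) hg)).elim
    by_contra h1
    exact hex ⟨g, hg, ⟨d, hd, hd0, hd'⟩, x, hx, h1⟩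

end KAlt

theorem Alt.not_iso_le_semiGL (h : Alt f) (hr : 2 ≤ finrank F K) (hn : 3 ≤ Fintype.card ι) :
    ¬ iso f ≤ semiGL K := fun h1 => by
  have : Nonempty ι := Fintype.card_pos_iff.1 (by omega)
  obtain ⟨v, hv⟩ := exists_ne (0 : ι → F)
  obtain ⟨h2, h3⟩ := ((Ei.iso h (h.zero_left v) 1).mono h1).tv h
  refine tvGL_notMem_semiGL hr hn hv (fun h0 => hv (dv_injective h.toSForm ?_)) h2 h3
  rw [dv_zero h.toSForm, ← h0, one_smul]

theorem isMaximalIn_field [Finite F] (h : Alt f) {r : ℕ} (hr : r.Prime)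
    (hq : ((∃ a : F, a ≠ 0 ∧ a ≠ 1) ∨ 3 ≤ r) ∨ 4 < Fintype.card ι) [Nonempty ι]
    {K : Subalgebra F (Matrix ι ι F)} (hK : IsFieldSubalgebra r K) (hs : IsSelfAdjointFor f K)
    (ha : ∀ k ∈ K, ∀ v, f (k *ᵥ v) v = 0) :
    IsMaximalIn (iso f) (subalgebraNormalizer K ⊓ iso f) := by
  let _ := (Asch.isField_of_isFieldSubalgebra hK).toField
  rw [subalgebraNormalizer_eq hK]
  rw [← hK.finrank_eq] at hr hq
  obtain ⟨τ, B, hB⟩ := exists_kAlt (K := K) h (fun κ => hs κ κ.2) fun κ => ha κ κ.2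
  exact isMaximalIn_inf (h.not_iso_le_semiGL hr.two_le (by
    have := hr.two_le; have := hB.finrank_lt; omega))
    fun M hM hMi g hg hg' => hB.iso_le hr hq hM hMi hg hg'

end Cfsg.Lib.Symp
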